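import Mathlib
import Groth.Prelude
import Groth.Agent.Lib.Helper8.DeltaInv4

set_option autoImplicit false
set_option backward.isDefEq.respectTransparency.types false
set_option synthInstance.maxHeartbeats 400000
set_option maxHeartbeats 4000000
set_option linter.style.haveILetI false
set_option linter.unusedSectionVars false
set_option linter.unusedVariables false

/-!
# The δ-invariant under a field base change: algebra (helper2)
-/

universe u

namespace Groth.Agent.Helper2.DeltaBC

open TensorProduct IsLocalRing

/-- the δ-invariant only depends on the isomorphism class of the ring -/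
theorem deltaInv_eq_of_ringEquiv {R S : Type u} [CommRing R] [CommRing S] (e : R ≃+* S) :
    Curv2.deltaInv R = Curv2.deltaInv S := by
  algebraize [e.toRingHom]
  have halg : ∀ r : R, algebraMap R (FractionRing S) r = algebraMap S (FractionRing S) (e r) :=
    fun r => IsScalarTower.algebraMap_apply R S (FractionRing S) r
  let eF : FractionRing R ≃+* FractionRing S := IsFractionRing.ringEquivOfRingEquiv e
  let eFA : FractionRing R ≃ₐ[R] FractionRing S := AlgEquiv.ofRingEquiv (f := eF) (fun r => by
    rw [halg]
    exact IsFractionRing.ringEquivOfRingEquiv_algebraMap e r)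
  let eIC : integralClosure R (FractionRing R) ≃ₐ[R] integralClosure R (FractionRing S) :=
    eFA.mapIntegralClosure
  have hcar : ∀ z : FractionRing S, IsIntegral R z ↔ IsIntegral S z := by
    intro z
    constructor
    · intro h
      exact h.tower_top
    · rintro ⟨p, hp, hpz⟩
      refine ⟨p.map e.symm.toRingHom, hp.map _, ?_⟩
      rw [Polynomial.eval₂_map]
      have : (algebraMap R (FractionRing S)).comp e.symm.toRingHom =
          algebraMap S (FractionRing S) := by
        ext s
        show algebraMap R (FractionRing S) (e.symm s) = _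
        rw [halg, e.apply_symm_apply]
      rw [this]
      exact hpz
  let j : integralClosure R (FractionRing S) ≃ₗ[R] integralClosure S (FractionRing S) :=
    { toFun := fun z => ⟨z.1, (hcar _).1 z.2⟩
      invFun := fun z => ⟨z.1, (hcar _).2 z.2⟩
      map_add' := fun _ _ => rfl
      map_smul' := fun r z => by
        apply Subtype.ext
        show r • (z : FractionRing S) = r • (z : FractionRing S)
        rfl
      left_inv := fun _ => rfl
      right_inv := fun _ => rfl }
  let f : integralClosure R (FractionRing R) ≃ₗ[R] integralClosure S (FractionRing S) :=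
    eIC.toLinearEquiv.trans j
  let Q : Submodule S (integralClosure S (FractionRing S)) :=
    LinearMap.range (Algebra.linearMap S (integralClosure S (FractionRing S)))
  have hmap : (LinearMap.range (Algebra.linearMap R (integralClosure R (FractionRing R)))).map
      (f : _ →ₗ[R] _) = Q.restrictScalars R := by
    ext z
    constructor
    · rintro ⟨_, ⟨r, rfl⟩, rfl⟩
      refine ⟨e r, ?_⟩
      apply Subtype.ext
      show algebraMap S (FractionRing S) (e r) = eF (algebraMap R (FractionRing R) r)
      exact (IsFractionRing.ringEquivOfRingEquiv_algebraMap e r).symm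
    · rintro ⟨s, rfl⟩
      refine ⟨_, ⟨e.symm s, rfl⟩, ?_⟩
      apply Subtype.ext
      show eF (algebraMap R (FractionRing R) (e.symm s)) = algebraMap S (FractionRing S) s
      rw [IsFractionRing.ringEquivOfRingEquiv_algebraMap e, e.apply_symm_apply]
  let g := (Submodule.Quotient.equiv _ _ f hmap).trans
    (Submodule.Quotient.restrictScalarsEquiv R Q)
  unfold Curv2.deltaInv
  rw [g.length_eq]
  exact Module.length_eq_of_surjective e.surjective

/-- in a local ring of dimension at most one, a proper radical ideal containing a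
nonzerodivisor is the maximal ideal -/
theorem eq_maximalIdeal_of_isRadical {C : Type u} [CommRing C] [IsLocalRing C]
    (hdim : ringKrullDim C ≤ 1) (I : Ideal C) (hI : I.IsRadical) (hne : I ≠ ⊤)
    (t : C) (ht : t ∈ nonZeroDivisors C) (htI : t ∈ I) : I = maximalIdeal C := by
  haveI : Ring.KrullDimLE 1 C := Ring.krullDimLE_iff.mpr (by simpa using hdim)
  refine le_antisymm (le_maximalIdeal hne) ?_
  rw [← hI.radical, Ideal.radical_eq_sInf]
  refine le_sInf ?_
  rintro P ⟨hIP, hP⟩
  haveI := hP
  rcases Ring.krullDimLE_one_iff.mp inferInstance P hP with hmin | hmax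
  · exfalso
    exact Set.disjoint_left.mp (Ideal.disjoint_nonZeroDivisors_of_mem_minimalPrimes hmin)
      (hIP htI) ht
  · rw [IsLocalRing.eq_maximalIdeal hmax]

section LemmaR

variable (k : Type u) [Field k] (A : Type u) [CommRing A] [Algebra k A]
  (K : Type u) [Field K] [Algebra k K]
  (B : Type u) [CommRing B] [Algebra A B] [Algebra (A ⊗[k] K) B] [IsScalarTower A (A ⊗[k] K) B]

theorem isReduced_tensor (M : Submonoid (A ⊗[k] K)) [IsLocalization M B] (E : Type u) [CommRing E] [Algebra A E] [Algebra k E]
    [IsScalarTower k A E] [IsReduced (E ⊗[k] K)] : IsReduced (B ⊗[A] E) := by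
  haveI h1 : IsReduced ((A ⊗[k] K) ⊗[A] E) := by
    let e1 : (A ⊗[k] K) ⊗[A] E ≃ₐ[A] E ⊗[A] (A ⊗[k] K) := Algebra.TensorProduct.comm A _ _
    let e2 : E ⊗[A] (A ⊗[k] K) ≃ₐ[A] E ⊗[k] K :=
      Algebra.TensorProduct.cancelBaseChange k A A E K
    exact isReduced_of_injective (e2.toRingEquiv.toRingHom.comp e1.toRingEquiv.toRingHom)
      (e2.injective.comp e1.injective)
  letI : Algebra ((A ⊗[k] K) ⊗[A] E) (B ⊗[A] E) :=
    (Algebra.TensorProduct.map (IsScalarTower.toAlgHom A (A ⊗[k] K) B)
      (AlgHom.id A E)).toRingHom.toAlgebra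
  haveI : IsScalarTower (A ⊗[k] K) ((A ⊗[k] K) ⊗[A] E) (B ⊗[A] E) :=
    IsScalarTower.of_algebraMap_eq (fun t => by
      show (algebraMap (A ⊗[k] K) B t) ⊗ₜ[A] (1 : E) =
        Algebra.TensorProduct.map (IsScalarTower.toAlgHom A (A ⊗[k] K) B) (AlgHom.id A E)
          (t ⊗ₜ[A] (1 : E))
      simp)
  haveI := IsLocalization.tensorProduct_tensorProduct A E M B (by
    ext e
    show Algebra.TensorProduct.map (IsScalarTower.toAlgHom A (A ⊗[k] K) B) (AlgHom.id A E)
      ((1 : A ⊗[k] K) ⊗ₜ[A] e) = (1 : B) ⊗ₜ[A] e
    simp)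
  exact isReduced_localizationPreserves
    (Algebra.algebraMapSubmonoid ((A ⊗[k] K) ⊗[A] E) M) _ inferInstance

variable [IsLocalRing A] [IsLocalRing B] [IsLocalHom (algebraMap A B)]

theorem map_maximalIdeal_eq (M : Submonoid (A ⊗[k] K)) [IsLocalization M B] (hdimB : ringKrullDim B ≤ 1) (t : A) (ht : t ∈ maximalIdeal A)
    (htB : algebraMap A B t ∈ nonZeroDivisors B)
    [IsReduced ((A ⧸ maximalIdeal A) ⊗[k] K)] :
    (maximalIdeal A).map (algebraMap A B) = maximalIdeal B := by
  refine eq_maximalIdeal_of_isRadical hdimB _ ?_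
    (IsLocalRing.map_maximalIdeal_lt_top (algebraMap A B)).ne (algebraMap A B t) htB
    (Ideal.mem_map_of_mem _ ht)
  rw [Ideal.isRadical_iff_quotient_reduced]
  haveI := isReduced_tensor k A K B M (A ⧸ maximalIdeal A)
  let e := Algebra.TensorProduct.quotIdealMapEquivTensorQuot B (maximalIdeal A)
  exact isReduced_of_injective e.toRingEquiv.toRingHom e.injective

/-- the fibre condition for a localization of a field base change -/
theorem fibre_cond_of_field_ext (M : Submonoid (A ⊗[k] K)) [IsLocalization M B]
    (A' : Type u) [CommRing A'] [Algebra A A'] [Module.Finite A A'] [Algebra k A']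
    [IsScalarTower k A A']
    (hm : (maximalIdeal A).map (algebraMap A B) = maximalIdeal B)
    (hred : ∀ (n' : Ideal A') [n'.IsMaximal], IsReduced ((A' ⧸ n') ⊗[k] K))
    (N : Ideal (B ⊗[A] A')) [hN : N.IsMaximal] :
    ∀ x ∈ N, ∃ s ∉ N, x * s ∈
      (N.comap (Algebra.TensorProduct.includeRight : A' →ₐ[A] B ⊗[A] A').toRingHom).map
        (Algebra.TensorProduct.includeRight : A' →ₐ[A] B ⊗[A] A').toRingHom := by
  classical
  let ι : A' →+* B ⊗[A] A' := (Algebra.TensorProduct.includeRight : A' →ₐ[A] B ⊗[A] A').toRingHom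
  let n' : Ideal A' := N.comap ι
  let J : Ideal (B ⊗[A] A') := n'.map ι
  have hJN : J ≤ N := Ideal.map_comap_le
  have hmT : ((maximalIdeal A).map (algebraMap A B)).map (algebraMap B (B ⊗[A] A')) =
      (maximalIdeal A).map (algebraMap A (B ⊗[A] A')) := by
    rw [Ideal.map_map, ← IsScalarTower.algebraMap_eq]
  haveI : Module.Finite B (B ⊗[A] A') := inferInstance
  haveI : (N.comap (algebraMap B (B ⊗[A] A'))).IsMaximal :=
    Ideal.isMaximal_comap_of_isIntegral_of_isMaximal N
  have hNB : N.comap (algebraMap B (B ⊗[A] A')) = maximalIdeal B :=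
    IsLocalRing.eq_maximalIdeal inferInstance
  have hιA : ∀ m : A, algebraMap A (B ⊗[A] A') m = ι (algebraMap A A' m) := by
    intro m
    show algebraMap A (B ⊗[A] A') m = (1 : B) ⊗ₜ[A] (algebraMap A A' m)
    rw [Algebra.algebraMap_eq_smul_one (A := A') m, TensorProduct.tmul_smul,
      Algebra.algebraMap_eq_smul_one (A := B ⊗[A] A') m]
    rfl
  have hmn' : ∀ m ∈ maximalIdeal A, algebraMap A A' m ∈ n' := by
    intro m hm'
    show ι (algebraMap A A' m) ∈ N
    rw [← hιA, IsScalarTower.algebraMap_apply A B (B ⊗[A] A')]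
    have h2 : algebraMap A B m ∈ maximalIdeal B := by
      rw [← hm]
      exact Ideal.mem_map_of_mem _ hm'
    rw [← hNB] at h2
    exact h2
  have step2 : (maximalIdeal A).map (algebraMap A (B ⊗[A] A')) ≤ J := by
    rw [Ideal.map_le_iff_le_comap]
    intro m hm'
    rw [Ideal.mem_comap, hιA]
    exact Ideal.mem_map_of_mem _ (hmn' m hm')
  have hn'A : n'.comap (algebraMap A A') = maximalIdeal A := by
    apply le_antisymm
    · apply le_maximalIdeal
      intro htop
      have h1 : (1 : A) ∈ n'.comap (algebraMap A A') := htop ▸ Submodule.mem_top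
      rw [Ideal.mem_comap, map_one] at h1
      have h2 : ι 1 ∈ N := h1
      rw [map_one] at h2
      exact hN.ne_top ((Ideal.eq_top_iff_one N).mpr h2)
    · intro m hm'
      exact hmn' m hm'
  haveI hn'prime : n'.IsPrime := Ideal.IsPrime.comap ι
  haveI hn'max : n'.IsMaximal := by
    apply Ideal.isMaximal_of_isIntegral_of_isMaximal_comap (R := A) n'
    rw [hn'A]
    infer_instance
  -- reducedness of the fibre
  haveI : IsReduced ((A' ⧸ n') ⊗[k] K) := hred n'
  haveI hR1 : IsReduced (B ⊗[A] (A' ⧸ n')) := isReduced_tensor k A K B M (A' ⧸ n')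
  haveI hR2 : IsReduced ((B ⊗[A] A') ⧸ J) := by
    let e := Algebra.TensorProduct.tensorQuotientEquiv (R := A) B A' B n'
    exact isReduced_of_injective e.symm.toRingEquiv.toRingHom e.symm.injective
  -- dimension zero
  haveI hD : Ring.KrullDimLE 0 ((B ⊗[A] A') ⧸ J) := by
    refine Ring.KrullDimLE.mk₀ fun Pbar hPbar => ?_
    haveI := hPbar
    let P : Ideal (B ⊗[A] A') := Pbar.comap (Ideal.Quotient.mk J)
    haveI hP : P.IsPrime := Ideal.IsPrime.comap _
    have hJP : J ≤ P := by
      intro z hz
      show Ideal.Quotient.mk J z ∈ Pbar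
      rw [Ideal.Quotient.eq_zero_iff_mem.mpr hz]
      exact Pbar.zero_mem
    have hPB : P.comap (algebraMap B (B ⊗[A] A')) = maximalIdeal B := by
      apply le_antisymm
      · apply le_maximalIdeal
        exact (Ideal.IsPrime.comap (algebraMap B (B ⊗[A] A'))).ne_top
      · rw [← hm, Ideal.map_le_iff_le_comap]
        intro m hm'
        rw [Ideal.mem_comap, Ideal.mem_comap, ← IsScalarTower.algebraMap_apply]
        exact hJP (step2 (Ideal.mem_map_of_mem _ hm'))
    haveI hPmax : P.IsMaximal := by
      apply Ideal.isMaximal_of_isIntegral_of_isMaximal_comap (R := B) P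
      rw [hPB]
      infer_instance
    have hPbar_eq : Pbar = P.map (Ideal.Quotient.mk J) :=
      (Ideal.map_comap_of_surjective _ Ideal.Quotient.mk_surjective Pbar).symm
    rcases Ideal.map_eq_top_or_isMaximal_of_surjective (Ideal.Quotient.mk J)
      Ideal.Quotient.mk_surjective hPmax with h | h
    · exact absurd (hPbar_eq.trans h) hPbar.ne_top
    · rw [hPbar_eq]; exact h
  intro x hx
  obtain ⟨a, b, hab, hb⟩ :=
    Groth.Agent.Helper8.NormRed.exists_mul_add_eq_one (Ideal.Quotient.mk J x)
  obtain ⟨s, rfl⟩ := Ideal.Quotient.mk_surjective b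
  obtain ⟨α, rfl⟩ := Ideal.Quotient.mk_surjective a
  refine ⟨s, ?_, ?_⟩
  · intro hsN
    have h2 : α * x + s - 1 ∈ J := by
      rw [← Ideal.Quotient.eq_zero_iff_mem, map_sub, map_add, map_mul, hab, map_one, sub_self]
    have h3 : (1 : B ⊗[A] A') ∈ N := by
      have : (1 : B ⊗[A] A') = (α * x + s) - (α * x + s - 1) := by ring
      rw [this]
      exact N.sub_mem (N.add_mem (N.mul_mem_left α hx) hsN) (hJN h2)
    exact hN.ne_top ((Ideal.eq_top_iff_one N).mpr h3)
  · show x * s ∈ J
    rw [← Ideal.Quotient.eq_zero_iff_mem, map_mul, mul_comm]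
    exact hb

end LemmaR

section Main

variable (k : Type u) [Field k] (A : Type u) [CommRing A] [Algebra k A]
  (K : Type u) [Field K] [Algebra k K]
  (B : Type u) [CommRing B] [Algebra A B] [Algebra (A ⊗[k] K) B] [IsScalarTower A (A ⊗[k] K) B]
  [IsLocalRing A] [IsLocalRing B] [IsLocalHom (algebraMap A B)]

/-- **the δ-invariant is unchanged by a one-dimensional localization of a field base change
when the residue fields of the normalization are separable** -/
theorem deltaInv_eq_of_field_ext (M : Submonoid (A ⊗[k] K)) [IsLocalization M B]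
    [IsDomain A] [Module.Flat A B] [IsNoetherianRing A] [IsNoetherianRing B]
    (hdimA : ringKrullDim A = 1) (hdimB : ringKrullDim B ≤ 1)
    [Module.Finite A (integralClosure A (FractionRing A))]
    (hred : ∀ (n' : Ideal (integralClosure A (FractionRing A))) [n'.IsMaximal],
      IsReduced ((integralClosure A (FractionRing A) ⧸ n') ⊗[k] K)) :
    Curv2.deltaInv B = Curv2.deltaInv A := by
  obtain ⟨t, ht, ht0⟩ : ∃ t ∈ maximalIdeal A, t ≠ 0 := by
    by_contra h
    have h : ∀ t ∈ maximalIdeal A, t = 0 := fun t ht => by_contra fun h0 => h ⟨t, ht, h0⟩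
    have hbot : maximalIdeal A = ⊥ := by
      ext z
      simp only [Ideal.mem_bot]
      exact ⟨fun hz => h z hz, fun hz => hz ▸ Ideal.zero_mem _⟩
    have hF : IsField A := IsLocalRing.isField_iff_maximalIdeal_eq.mpr hbot
    have h0 := ringKrullDim_eq_zero_of_isField hF
    rw [hdimA] at h0
    exact one_ne_zero h0
  have htB : algebraMap A B t ∈ nonZeroDivisors B :=
    Groth.Agent.Helper8.DeltaInv.algebraMap_mem_nonZeroDivisors A B
      (mem_nonZeroDivisors_of_ne_zero ht0)
  haveI : IsReduced ((A ⧸ maximalIdeal A) ⊗[k] K) := by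
    obtain ⟨n', hn'⟩ := Ideal.exists_maximal (integralClosure A (FractionRing A))
    haveI := hn'
    haveI := hred n'
    haveI : (n'.comap (algebraMap A (integralClosure A (FractionRing A)))).IsMaximal :=
      Ideal.isMaximal_comap_of_isIntegral_of_isMaximal n'
    have hle : maximalIdeal A ≤ n'.comap (algebraMap A (integralClosure A (FractionRing A))) :=
      (IsLocalRing.eq_maximalIdeal inferInstance).ge
    let f : A ⧸ maximalIdeal A →ₐ[k] integralClosure A (FractionRing A) ⧸ n' :=
      Ideal.quotientMapₐ n' (IsScalarTower.toAlgHom k A (integralClosure A (FractionRing A))) hle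
    letI : Field (A ⧸ maximalIdeal A) := Ideal.Quotient.field _
    have hf : Function.Injective f := RingHom.injective f.toRingHom
    exact isReduced_of_injective (Algebra.TensorProduct.map f (AlgHom.id k K))
      (Module.Flat.rTensor_preserves_injective_linearMap _ hf)
  have hm := map_maximalIdeal_eq k A K B M hdimB t ht htB
  exact Groth.Agent.Helper8.DeltaInv.deltaInv_eq_of_flat A B hm (fun N _ =>
    Groth.Agent.Helper8.DeltaInv.normal_tensor A B hdimA.le (fun N' _ =>
      fibre_cond_of_field_ext k A K B M _ hm hred N') N)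

end Main

end Groth.Agent.Helper2.DeltaBC
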