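import Mathlib
import Groth.Prelude
import Groth.Agent.Lib.Helper2.Norm.BCAlg
import Groth.Agent.Lib.Helper3.GeoReg1
import Groth.Agent.Lib.Helper8.FlatReg11
import Groth.Agent.Lib.Helper8.CompFib3

set_option autoImplicit false
set_option backward.isDefEq.respectTransparency.types false
set_option synthInstance.maxHeartbeats 400000
set_option maxHeartbeats 4000000
set_option linter.style.haveILetI false
set_option linter.unusedSectionVars false
set_option linter.unusedVariables false

/-!
# A regular local ring with separable residue field is geometrically regular (helper2)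
-/

universe u

namespace Groth.Agent.Helper2.GeomReg

open IsLocalRing TensorProduct

theorem isRegularLocalRing_of_isField {R : Type*} [CommRing R] (h : IsField R) :
    IsRegularLocalRing R := by
  haveI : IsDomain R := h.isDomain
  haveI : IsPrincipalIdealRing R := h.isPrincipalIdealRing
  haveI : IsLocalRing R := by
    letI := h.toField
    infer_instance
  infer_instance

/-- going up of heights along an integral extension -/
theorem height_le_height_comap_of_isIntegral (R S : Type*) [CommRing R] [CommRing S] [Algebra R S]
    [Algebra.IsIntegral R S] (P : Ideal S) [P.IsPrime] :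
    P.height ≤ (P.comap (algebraMap R S)).height := by
  have e1 := PrimeSpectrum.height_eq_orderHeight (⟨P, inferInstance⟩ : PrimeSpectrum S)
  have e2 := PrimeSpectrum.height_eq_orderHeight
    (PrimeSpectrum.comap (algebraMap R S) (⟨P, inferInstance⟩ : PrimeSpectrum S))
  change P.height = _ at e1
  change (P.comap (algebraMap R S)).height = _ at e2
  rw [e1, e2]
  refine Order.height_le_height_apply_of_strictMono (PrimeSpectrum.comap (algebraMap R S)) ?_
    (⟨P, inferInstance⟩ : PrimeSpectrum S)
  intro P Q hPQ
  have hle : P.asIdeal ≤ Q.asIdeal := hPQ.le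
  have hne : ¬ Q.asIdeal ≤ P.asIdeal := fun h => (not_le_of_gt hPQ) h
  obtain ⟨x, hxQ, hxP⟩ := Set.not_subset.mp hne
  exact Ideal.comap_lt_comap_of_integral_mem_sdiff (R := R) hle ⟨hxQ, hxP⟩
    (Algebra.IsIntegral.isIntegral x)

variable (k : Type u) [Field k] (D : Type u) [CommRing D] [Algebra k D]

/-- the local rings of a finite base change of a regular local ring with separable residue
field at primes over the closed point are regular -/
theorem regOver_of_residue [IsRegularLocalRing D] (k' : Type u) [Field k'] [Algebra k k']
    [FiniteDimensional k k'] [IsReduced ((D ⧸ maximalIdeal D) ⊗[k] k')] :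
    Groth.Agent.Helper3.GeoReg.RegOver k D k' (closedPoint D) := by
  intro q hq
  haveI : Module.Finite D (D ⊗[k] k') := inferInstance
  haveI : IsNoetherianRing (D ⊗[k] k') := IsNoetherianRing.of_finite D _
  haveI : Algebra.IsIntegral D (D ⊗[k] k') := Algebra.IsIntegral.of_finite D _
  haveI : IsNoetherianRing (Localization.AtPrime q.asIdeal) :=
    IsLocalization.isNoetherianRing q.asIdeal.primeCompl _ inferInstance
  have hqD : q.asIdeal.comap (algebraMap D (D ⊗[k] k')) = maximalIdeal D :=
    congrArg PrimeSpectrum.asIdeal hq
  have hcomap : Ideal.comap (algebraMap (D ⊗[k] k') (Localization.AtPrime q.asIdeal))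
      (maximalIdeal (Localization.AtPrime q.asIdeal)) = q.asIdeal :=
    Localization.AtPrime.under_maximalIdeal
  haveI : IsLocalHom (algebraMap D (Localization.AtPrime q.asIdeal)) := by
    refine ((IsLocalRing.local_hom_TFAE _).out 0 4).mpr ?_
    rw [IsScalarTower.algebraMap_eq D (D ⊗[k] k') (Localization.AtPrime q.asIdeal),
      ← Ideal.comap_comap, hcomap]
    exact hqD
  haveI : Module.Flat D (Localization.AtPrime q.asIdeal) :=
    Module.Flat.trans D (D ⊗[k] k') (Localization.AtPrime q.asIdeal)
  have hm : (maximalIdeal D).map (algebraMap D (Localization.AtPrime q.asIdeal)) =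
      maximalIdeal (Localization.AtPrime q.asIdeal) := by
    have hrad : ((maximalIdeal D).map (algebraMap D (Localization.AtPrime q.asIdeal))).IsRadical := by
      rw [Ideal.isRadical_iff_quotient_reduced]
      haveI := Groth.Agent.Helper2.DeltaBC.isReduced_tensor k D k'
        (Localization.AtPrime q.asIdeal) q.asIdeal.primeCompl (D ⧸ maximalIdeal D)
      let e := Algebra.TensorProduct.quotIdealMapEquivTensorQuot
        (Localization.AtPrime q.asIdeal) (maximalIdeal D)
      exact isReduced_of_injective e.toRingEquiv.toRingHom e.injective
    refine le_antisymm (le_maximalIdeal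
      (IsLocalRing.map_maximalIdeal_lt_top (algebraMap D (Localization.AtPrime q.asIdeal))).ne) ?_
    rw [← hrad.radical, Ideal.radical_eq_sInf]
    refine le_sInf ?_
    rintro P ⟨hIP, hP⟩
    haveI := hP
    haveI hP'prime : (P.comap (algebraMap (D ⊗[k] k') (Localization.AtPrime q.asIdeal))).IsPrime :=
      Ideal.IsPrime.comap _
    have h1 : (P.comap (algebraMap (D ⊗[k] k') (Localization.AtPrime q.asIdeal))).comap
        (algebraMap D (D ⊗[k] k')) = maximalIdeal D := by
      refine le_antisymm (le_maximalIdeal (Ideal.IsPrime.comap _).ne_top) ?_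
      intro m hm'
      rw [Ideal.mem_comap, Ideal.mem_comap, ← IsScalarTower.algebraMap_apply]
      exact hIP (Ideal.mem_map_of_mem _ hm')
    haveI hP'max : (P.comap (algebraMap (D ⊗[k] k') (Localization.AtPrime q.asIdeal))).IsMaximal := by
      apply Ideal.isMaximal_of_isIntegral_of_isMaximal_comap (R := D)
      rw [h1]
      infer_instance
    have h2 : P.comap (algebraMap (D ⊗[k] k') (Localization.AtPrime q.asIdeal)) ≤ q.asIdeal := by
      exact le_trans (Ideal.comap_mono (le_maximalIdeal hP.ne_top)) hcomap.le
    have h3 : P.comap (algebraMap (D ⊗[k] k') (Localization.AtPrime q.asIdeal)) = q.asIdeal :=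
      hP'max.eq_of_le q.2.ne_top h2
    have h4 : (P.comap (algebraMap (D ⊗[k] k') (Localization.AtPrime q.asIdeal))).map
        (algebraMap (D ⊗[k] k') (Localization.AtPrime q.asIdeal)) = P :=
      IsLocalization.map_under q.asIdeal.primeCompl (Localization.AtPrime q.asIdeal) P
    rw [← h4, h3]
    exact (Localization.AtPrime.map_eq_maximalIdeal).ge
  haveI : IsRegularLocalRing ((Localization.AtPrime q.asIdeal) ⧸
      (maximalIdeal D).map (algebraMap D (Localization.AtPrime q.asIdeal))) := by
    rw [hm]
    exact isRegularLocalRing_of_isField
      ((Ideal.Quotient.maximal_ideal_iff_isField_quotient _).mp inferInstance)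
  exact Groth.Agent.Helper8.FlatReg.isRegularLocalRing_of_flat_of_fibre D
    (Localization.AtPrime q.asIdeal)

/-- **a regular local ring whose residue field is separable over `k` is geometrically
regular over `k`** -/
theorem isGeometricallyRegular_of_residue [IsRegularLocalRing D]
    (hred : ∀ (K : Type u) [Field K] [Algebra k K] [FiniteDimensional k K],
      IsReduced ((D ⧸ maximalIdeal D) ⊗[k] K)) :
    CAlg.IsGeometricallyRegular k D :=
  Groth.Agent.Helper3.GeoReg.isGeometricallyRegular_of_regOver k D (fun k' _ _ _ _ => by
    haveI := hred k'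
    exact regOver_of_residue k D k')

/-- geometrically regular algebras are geometrically reduced -/
theorem isGeometricallyReduced_of_isGeometricallyRegular
    (h : CAlg.IsGeometricallyRegular k D) : Algebra.IsGeometricallyReduced k D := by
  rw [Algebra.isGeometricallyReduced_field_iff]
  haveI : IsReduced (D ⊗[k] AlgebraicClosure k) := by
    refine IsReduced.tensorProduct_of_flat_of_forall_fg (R := k) (C := D)
      (A := AlgebraicClosure k) ?_
    intro B hB
    obtain ⟨s, hs⟩ := hB
    let L : IntermediateField k (AlgebraicClosure k) :=
      IntermediateField.adjoin k (s : Set (AlgebraicClosure k))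
    haveI : FiniteDimensional k L :=
      IntermediateField.finiteDimensional_adjoin (fun x _ => Algebra.IsIntegral.isIntegral x)
    have hBL : B ≤ L.toSubalgebra := by
      rw [← hs]
      exact IntermediateField.algebra_adjoin_le_adjoin k _
    haveI : IsRegularRing (L ⊗[k] D) := h L inferInstance
    haveI : IsReduced (L ⊗[k] D) := Groth.Agent.Helper8.CompFib.isReduced_of_isRegularRing (↥L ⊗[k] D)
    let i : B →ₐ[k] L := Subalgebra.inclusion hBL
    have hi : Function.Injective i := Subalgebra.inclusion_injective hBL
    let f : D ⊗[k] B →ₐ[k] D ⊗[k] L := Algebra.TensorProduct.map (AlgHom.id k D) i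
    have hf : Function.Injective f :=
      Module.Flat.lTensor_preserves_injective_linearMap (M := D) i.toLinearMap hi
    let c : D ⊗[k] L ≃ₐ[k] L ⊗[k] D := Algebra.TensorProduct.comm k D L
    exact isReduced_of_injective (c.toRingEquiv.toRingHom.comp f.toRingHom)
      (c.injective.comp hf)
  exact isReduced_of_injective
    (Algebra.TensorProduct.comm k (AlgebraicClosure k) D).toRingEquiv.toRingHom
    (Algebra.TensorProduct.comm k (AlgebraicClosure k) D).injective

end Groth.Agent.Helper2.GeomReg
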