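import Mathlib
import Groth.Prelude
import Groth.Agent.Lib.Helper2.Norm.GeomRegAlg
import Groth.Agent.Lib.Helper4.Japanese3
import Groth.Agent.Lib.Helper4.NormalizationField2
import Groth.Agent.Lib.Helper4.ZMTBirational
import Groth.Agent.Lib.Helper8.CohenFact1
import Groth.Agent.Lib.Helper8.CompFib3

set_option autoImplicit false
set_option backward.isDefEq.respectTransparency.types false
set_option synthInstance.maxHeartbeats 400000
set_option maxHeartbeats 4000000
set_option linter.style.haveILetI false
set_option linter.unusedSectionVars false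
set_option linter.unusedVariables false

/-!
# Resolution of one-dimensional integral schemes: finiteness of the normalization (helper2)
-/

universe u

namespace Groth.Agent.Helper2.ResolveCurve

open CategoryTheory CategoryTheory.Limits AlgebraicGeometry TopologicalSpace Opposite IsLocalRing
open Groth.Agent.Lib.Helper4.NormalizationField1 Groth.Agent.Lib.Helper4.NormalizationField3
open Groth.Agent.Lib.Helper4.NormalizationField2
open Groth.Agent.Lib.Helper4.Japanese1 Groth.Agent.Lib.Helper4.Japanese2
open Groth.Agent.Lib.Helper4.Japanese3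

/-- a regular local ring is integrally closed -/
theorem isIntegrallyClosed_of_isRegularLocalRing (D : Type u) [CommRing D] [IsRegularLocalRing D] :
    IsIntegrallyClosed D := by
  haveI := Groth.Agent.Helper8.CohenFact.isRegularRing_of_isRegularLocalRing D
  obtain ⟨hd, hic⟩ := Groth.Agent.Helper8.CompFib.isNormalRing_of_isRegularRing D (maximalIdeal D)
  have H : (maximalIdeal D).primeCompl ≤ IsUnit.submonoid D := by
    intro x hx
    rw [IsUnit.mem_submonoid_iff]
    by_contra hnu
    exact hx ((IsLocalRing.mem_maximalIdeal x).mpr hnu)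
  let e := (IsLocalization.atUnits D (maximalIdeal D).primeCompl
    (S := Localization.AtPrime (maximalIdeal D)) H)
  exact IsIntegrallyClosed.of_equiv (R := Localization.AtPrime (maximalIdeal D))
    e.symm.toRingEquiv

/-- the integral closure of a Noetherian domain is finite as soon as the domain has a finite
injective extension which is an integrally closed domain -/
theorem finite_integralClosure_of_finite_normal (R B : Type u) [CommRing R] [IsDomain R]
    [IsNoetherianRing R] [CommRing B] [IsDomain B] [IsIntegrallyClosed B] [Algebra R B]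
    [Module.Finite R B] (hinj : Function.Injective (algebraMap R B)) :
    Module.Finite R (integralClosure R (FractionRing R)) := by
  have hinjL : Function.Injective (algebraMap R (FractionRing B)) := by
    rw [IsScalarTower.algebraMap_eq R B (FractionRing B)]
    exact (IsFractionRing.injective B (FractionRing B)).comp hinj
  let ψ : FractionRing R →ₐ[R] FractionRing B :=
    IsFractionRing.liftAlgHom (g := Algebra.ofId R (FractionRing B)) hinjL
  let N : Submodule R (FractionRing B) :=
    LinearMap.range (IsScalarTower.toAlgHom R B (FractionRing B)).toLinearMap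
  haveI : Module.Finite R N := Module.Finite.range _
  haveI : IsNoetherian R N := isNoetherian_of_isNoetherianRing_of_finite R N
  have hmem : ∀ z : integralClosure R (FractionRing R),
      (ψ.toLinearMap.comp (integralClosure R (FractionRing R)).val.toLinearMap) z ∈ N := by
    intro z
    have h1 : IsIntegral R (ψ z.1) := z.2.map ψ
    have h2 : IsIntegral B (ψ z.1) := h1.tower_top
    obtain ⟨b, hb⟩ := IsIntegrallyClosed.isIntegral_iff.mp h2
    exact ⟨b, hb⟩
  let φ : integralClosure R (FractionRing R) →ₗ[R] N :=
    LinearMap.codRestrict N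
      (ψ.toLinearMap.comp (integralClosure R (FractionRing R)).val.toLinearMap) hmem
  have hφ : Function.Injective φ := by
    intro a b hab
    have h1 := congrArg Subtype.val hab
    have h2 : ψ a.1 = ψ b.1 := h1
    exact Subtype.ext ((ψ : FractionRing R →+* FractionRing B).injective h2)
  exact Module.Finite.of_injective φ hφ

/-- finiteness of the normalization from finiteness of the integral closures in the function field
(the `N-1` form) -/
theorem isFinite_fromNormalization_of_N1 (X : Scheme.{u}) [IsIntegral X]
    [QuasiCompact (X.fromSpecStalk (genericPoint ↥X))]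
    [QuasiSeparated (X.fromSpecStalk (genericPoint ↥X))]
    (hJ : ∀ (U : X.Opens), IsAffineOpen U → ∀ [Nonempty U],
      Module.Finite Γ(X, U) (integralClosure Γ(X, U) X.functionField)) :
    IsFinite (X.fromSpecStalk (genericPoint X)).fromNormalization := by
  apply isFinite_fromNormalization_of_finite
  intro U hU
  letI algAL : Algebra Γ(X, U) Γ(Spec (X.presheaf.stalk (genericPoint X)),
    (X.fromSpecStalk (genericPoint X)) ⁻¹ᵁ U) := ((X.fromSpecStalk (genericPoint X)).app U).hom.toAlgebra
  by_cases hne : (U : Set X).Nonempty
  · have hηU : genericPoint X ∈ U :=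
      ((genericPoint_spec X).mem_open_set_iff U.isOpen).mpr (by simpa using hne)
    haveI hneU : Nonempty U := ⟨⟨_, hηU⟩⟩
    haveI : IsDomain Γ(X, U) := IsIntegral.component_integral (X := X) (U := U)
    haveI := functionField_isFractionRing_of_isAffineOpen X U hU
    have hfin : Module.Finite Γ(X, U) (integralClosure Γ(X, U) X.functionField) := hJ U hU
    have hgpt : (X.fromSpecStalk (genericPoint X)) (closedPoint (X.presheaf.stalk (genericPoint X))) =
        genericPoint X := fromSpecStalk_genericPoint_apply X _
    have hV : closedPoint (X.presheaf.stalk (genericPoint X)) ∈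
        (X.fromSpecStalk (genericPoint X)) ⁻¹ᵁ U := by
      show (X.fromSpecStalk (genericPoint X)) _ ∈ U
      rw [hgpt]; exact hηU
    have hU' : (X.fromSpecStalk (genericPoint X))
        (closedPoint (X.presheaf.stalk (genericPoint X))) ∈ U := hV
    have hKf : IsField (X.presheaf.stalk (genericPoint X)) := isField_functionField X
    refine finite_integralClosure_of_equiv Γ(X, U) X.functionField _
      (evClosed (X.presheaf.stalk (genericPoint X)) _ hV).hom
      (bijective_evClosed_of_isField _ hKf _ hV) ?_ hfin
    intro a
    have h1 := stalkClosedPointTo_germ_eq_evClosed (X.presheaf.stalk (genericPoint X))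
      (X.fromSpecStalk (genericPoint X)) U hU' _ le_rfl hV a
    have h2 := stalkClosedPointTo_germ_of_eq (X := X) X.functionField (RingHom.id _)
      (X.fromSpecStalk (genericPoint X)) (by
        have : CommRingCat.ofHom (RingHom.id X.functionField) = 𝟙 _ := rfl
        rw [this, Spec.map_id]
        exact (Category.id_comp _).symm) U hU' hηU a
    rw [h1] at h2
    rw [← Scheme.Hom.app_eq_appLE] at h2
    exact h2
  · have hUbot : U = ⊥ := by
      ext x
      simp only [Opens.coe_bot, Set.mem_empty_iff_false, iff_false]
      exact fun hx => hne ⟨x, hx⟩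
    haveI : Subsingleton Γ(Spec (X.presheaf.stalk (genericPoint X)),
        (X.fromSpecStalk (genericPoint X)) ⁻¹ᵁ U) := by
      rw [hUbot]
      have : (X.fromSpecStalk (genericPoint X)) ⁻¹ᵁ (⊥ : X.Opens) = ⊥ := rfl
      rw [this]
      infer_instance
    haveI : Subsingleton (integralClosure Γ(X, U) Γ(Spec (X.presheaf.stalk (genericPoint X)),
        (X.fromSpecStalk (genericPoint X)) ⁻¹ᵁ U)) := inferInstance
    exact Module.Finite.of_finite

/-- **a finite dominant morphism from a normal integral scheme forces the normalization of a
locally Noetherian integral scheme to be finite** -/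
theorem isFinite_normalization_of_finite_normal {X Y : Scheme.{u}} [IsIntegral X] [IsIntegral Y]
    [IsLocallyNoetherian Y]
    [QuasiCompact (Y.fromSpecStalk (genericPoint ↥Y))]
    [QuasiSeparated (Y.fromSpecStalk (genericPoint ↥Y))]
    (g : X ⟶ Y) [IsFinite g] [IsDominant g]
    (hN : ∀ x : X, IsIntegrallyClosed (X.presheaf.stalk x)) :
    IsFinite (Y.fromSpecStalk (genericPoint Y)).fromNormalization := by
  apply isFinite_fromNormalization_of_N1
  intro U hU hneU
  haveI : IsDomain Γ(Y, U) := IsIntegral.component_integral (X := Y) (U := U)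
  haveI : IsNoetherianRing Γ(Y, U) := IsLocallyNoetherian.component_noetherian ⟨U, hU⟩
  have hV : IsAffineOpen (g ⁻¹ᵁ U) := hU.preimage g
  haveI hneV : Nonempty (g ⁻¹ᵁ U : X.Opens) := by
    obtain ⟨y, hy⟩ := hneU
    obtain ⟨x', hx'⟩ := g.denseRange.exists_mem_open U.isOpen ⟨y, hy⟩
    exact ⟨⟨x', hx'⟩⟩
  haveI : IsDomain Γ(X, g ⁻¹ᵁ U) := IsIntegral.component_integral (X := X) (U := g ⁻¹ᵁ U)
  haveI : IsIntegrallyClosed Γ(X, g ⁻¹ᵁ U) :=
    Groth.Agent.Lib.Helper4.ZMTBirational.isIntegrallyClosed_sections hN hV
  letI alg : Algebra Γ(Y, U) Γ(X, g ⁻¹ᵁ U) := (g.app U).hom.toAlgebra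
  haveI : Module.Finite Γ(Y, U) Γ(X, g ⁻¹ᵁ U) := g.finite_app U hU
  haveI : IsSchemeTheoreticallyDominant g := IsSchemeTheoreticallyDominant.of_isDominant g
  have hinj : Function.Injective (algebraMap Γ(Y, U) Γ(X, g ⁻¹ᵁ U)) := g.app_injective U
  have h1 := finite_integralClosure_of_finite_normal Γ(Y, U) Γ(X, g ⁻¹ᵁ U) hinj
  haveI := functionField_isFractionRing_of_isAffineOpen Y U hU
  exact finite_integralClosure_of_equiv Γ(Y, U) (FractionRing Γ(Y, U)) Y.functionField
    (FractionRing.algEquiv Γ(Y, U) Y.functionField).symm.toRingEquiv.toRingHom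
    (FractionRing.algEquiv Γ(Y, U) Y.functionField).symm.bijective
    (fun a => (FractionRing.algEquiv Γ(Y, U) Y.functionField).symm.commutes a) h1

end Groth.Agent.Helper2.ResolveCurve
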