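import Mathlib
import Groth.Prelude
import Groth.Agent.Lib.Helper2.Norm.ResolveCurveA
import Groth.Agent.Lib.Helper4.GenFiniteDimOne1
import Groth.Agent.Lib.Helper4.CurveTop1
import Groth.Agent.Lib.Helper4.CurveValRings1
import Groth.Agent.Lib.Helper4.BirationalNormal1
import Groth.Agent.Lib.Helper6.EtLoc.PIPoint
import Groth.Agent.Lib.Helper8.FlatReg14

set_option autoImplicit false
set_option backward.isDefEq.respectTransparency.types false
set_option synthInstance.maxHeartbeats 400000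
set_option maxHeartbeats 4000000
set_option linter.style.haveILetI false
set_option linter.unusedSectionVars false
set_option linter.unusedVariables false

/-!
# Resolution of one-dimensional integral schemes (helper2)
-/

universe u

namespace Groth.Agent.Helper2.ResolveCurve

open CategoryTheory CategoryTheory.Limits AlgebraicGeometry TopologicalSpace Opposite IsLocalRing

/-- a proper dominant generically finite morphism of integral schemes onto a locally Noetherian
scheme whose non-generic points have one-dimensional local rings is finite -/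
theorem isFinite_of_alteration {X Y : Scheme.{u}} [IsIntegral X] [IsIntegral Y]
    [IsLocallyNoetherian Y] (g : X ⟶ Y) [IsProper g] [IsDominant g]
    (V₀ : Y.Opens) (hV₀ : (V₀ : Set Y).Nonempty) [IsFinite (g ∣_ V₀)]
    (hdim : ∀ ξ : Y, ξ ≠ genericPoint Y → ringKrullDim (Y.presheaf.stalk ξ) = 1) :
    IsFinite g := by
  have hgen : g (genericPoint X) = genericPoint Y :=
    Groth.Agent.Lib.Helper4.CurveTop1.map_genericPoint_of_isDominant g
  have hηV : genericPoint Y ∈ V₀ :=
    ((genericPoint_spec Y).mem_open_set_iff V₀.isOpen).mpr (by simpa using hV₀)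
  have hηW : genericPoint X ∈ g ⁻¹ᵁ V₀ := by
    show g (genericPoint X) ∈ V₀
    rw [hgen]; exact hηV
  have hqf : g.QuasiFiniteAt (genericPoint X) := by
    have h1 : ((g ⁻¹ᵁ V₀).ι ≫ g).QuasiFiniteAt ⟨genericPoint X, hηW⟩ := by
      rw [← morphismRestrict_ι]
      exact Scheme.Hom.quasiFiniteAt _ _
    exact Scheme.Hom.quasiFiniteAt_comp_iff_of_isOpenImmersion.mp h1
  have hfin := Groth.Agent.Lib.Helper6.EtLoc.finite_residueFieldMap_of_quasiFiniteAt g _ hqf
  apply IsZariskiLocalAtTarget.of_forall_exists_morphismRestrict (P := @IsFinite)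
  intro ξ
  by_cases hξ : ξ = genericPoint Y
  · exact ⟨V₀, hξ ▸ hηV, inferInstance⟩
  · exact Groth.Agent.Lib.Helper4.GenFiniteDimOne1.S1867_main X Y g hgen hfin ξ (hdim ξ hξ)

/-- local rings of a one-dimensional irreducible scheme at non-generic points have dimension
one -/
theorem ringKrullDim_stalk_eq_one (Y : Scheme.{u}) [IrreducibleSpace Y]
    (hdim : topologicalKrullDim Y = 1) (ξ : Y) (hξ : ξ ≠ genericPoint Y) :
    ringKrullDim (Y.presheaf.stalk ξ) = 1 := by
  have h1 : ringKrullDim (Y.presheaf.stalk ξ) ≤ 1 := by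
    rw [← hdim]
    exact Groth.Agent.Lib.Helper4.BirationalNormal1.ringKrullDim_stalk_le_topologicalKrullDim Y ξ
  by_contra hne
  apply hξ
  apply Groth.Agent.Lib.Helper4.CurveValRings1.eq_genericPoint_of_ringKrullDim_stalk_le_zero
  have h2 : ringKrullDim (Y.presheaf.stalk ξ) < 1 := lt_of_le_of_ne h1 hne
  generalize ringKrullDim (Y.presheaf.stalk ξ) = d at h2 ⊢
  induction d using WithBot.recBotCoe with
  | bot => exact bot_le
  | coe d =>
    have h3 : d < 1 := by exact_mod_cast h2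
    have h4 : d = 0 := Order.lt_one_iff.mp h3
    rw [h4]
    rfl

/-- the dimension of the local rings does not go up along an integral morphism -/
theorem ringKrullDim_stalk_le_of_isIntegralHom {N X : Scheme.{u}} (ν : N ⟶ X) [IsIntegralHom ν]
    (x' : N) :
    ringKrullDim (N.presheaf.stalk x') ≤ ringKrullDim (X.presheaf.stalk (ν x')) := by
  obtain ⟨_, ⟨U, hU, rfl⟩, hxU, -⟩ :=
    X.isBasis_affineOpens.exists_subset_of_mem_open (Set.mem_univ (ν x')) isOpen_univ
  have hV : IsAffineOpen (ν ⁻¹ᵁ U) := hU.preimage ν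
  have hx'V : x' ∈ ν ⁻¹ᵁ U := hxU
  letI algRR' : Algebra Γ(X, U) Γ(N, ν ⁻¹ᵁ U) := (ν.app U).hom.toAlgebra
  haveI hint : Algebra.IsIntegral Γ(X, U) Γ(N, ν ⁻¹ᵁ U) := by
    have h := ν.isIntegral_app U hU
    exact ⟨h⟩
  letI algRA : Algebra Γ(X, U) (X.presheaf.stalk (ν x')) :=
    TopCat.Presheaf.algebra_section_stalk X.presheaf ⟨ν x', hxU⟩
  haveI hlocA : IsLocalization.AtPrime (X.presheaf.stalk (ν x'))
      (hU.primeIdealOf ⟨ν x', hxU⟩).asIdeal := hU.isLocalization_stalk ⟨ν x', hxU⟩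
  letI algR'D : Algebra Γ(N, ν ⁻¹ᵁ U) (N.presheaf.stalk x') :=
    TopCat.Presheaf.algebra_section_stalk N.presheaf ⟨x', hx'V⟩
  haveI hlocD : IsLocalization.AtPrime (N.presheaf.stalk x')
      (hV.primeIdealOf ⟨x', hx'V⟩).asIdeal := hV.isLocalization_stalk ⟨x', hx'V⟩
  have hcomap : (hV.primeIdealOf ⟨x', hx'V⟩).asIdeal.comap
      (algebraMap Γ(X, U) Γ(N, ν ⁻¹ᵁ U)) = (hU.primeIdealOf ⟨ν x', hxU⟩).asIdeal := by
    have h1 := IsAffineOpen.comap_primeIdealOf_appLE (f := ν) U hU (ν ⁻¹ᵁ U) hV le_rfl hx'V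
    have h2 := congrArg PrimeSpectrum.asIdeal h1
    rw [← h2]
    show _ = (hV.primeIdealOf ⟨x', hx'V⟩).asIdeal.comap (ν.appLE U (ν ⁻¹ᵁ U) le_rfl).hom
    rw [Scheme.Hom.appLE_eq_app]
    rfl
  rw [IsLocalization.AtPrime.ringKrullDim_eq_height (hV.primeIdealOf ⟨x', hx'V⟩).asIdeal
      (N.presheaf.stalk x'),
    IsLocalization.AtPrime.ringKrullDim_eq_height (hU.primeIdealOf ⟨ν x', hxU⟩).asIdeal
      (X.presheaf.stalk (ν x')), ← hcomap]
  exact_mod_cast Groth.Agent.Helper2.GeomReg.height_le_height_comap_of_isIntegral Γ(X, U)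
    Γ(N, ν ⁻¹ᵁ U) (hV.primeIdealOf ⟨x', hx'V⟩).asIdeal

end Groth.Agent.Helper2.ResolveCurve
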