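import Mathlib
import Groth.Prelude
import Groth.Agent.Lib.Helper2.Norm.ResolveCurveB

set_option autoImplicit false
set_option backward.isDefEq.respectTransparency.types false
set_option synthInstance.maxHeartbeats 400000
set_option maxHeartbeats 4000000
set_option linter.style.haveILetI false
set_option linter.unusedSectionVars false
set_option linter.unusedVariables false

/-!
# Resolution of one-dimensional integral Noetherian schemes: the equivalences (helper2)
-/

universe u

namespace Groth.Agent.Helper2.ResolveCurve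

open CategoryTheory CategoryTheory.Limits AlgebraicGeometry TopologicalSpace Opposite IsLocalRing

/-- a resolution is an alteration -/
theorem isAlteration_of_resolution {X Y : Scheme.{u}} [IsIntegral Y] (g : X ⟶ Y) (hp : IsProper g)
    (hX : IsIntegral X) (V : Y.Opens) (hV : (V : Set Y).Nonempty) (hiso : IsIso (g ∣_ V)) :
    Curv2.IsAlteration g := by
  refine ⟨hp, hX, inferInstance, ⟨?_⟩, V, hV, inferInstance⟩
  have hdense : Dense (V : Set Y) := V.isOpen.dense hV
  refine hdense.mono ?_
  intro y hy
  have hsurj : Function.Surjective (g ∣_ V) :=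
    (ConcreteCategory.bijective_of_isIso (g ∣_ V).base).2
  obtain ⟨w, hw⟩ := hsurj ⟨y, hy⟩
  refine ⟨w.1, ?_⟩
  have h1 := congrArg (fun φ : (g ⁻¹ᵁ V).toScheme ⟶ Y => φ w) (morphismRestrict_ι g V)
  simp only [Scheme.Hom.comp_apply] at h1
  rw [hw] at h1
  exact h1.symm

section
variable (Y : Scheme.{u}) [IsIntegral Y] [IsNoetherian Y]
  [QuasiCompact (Y.fromSpecStalk (genericPoint Y))]
  [QuasiSeparated (Y.fromSpecStalk (genericPoint Y))]

/-- a regular alteration forces the normalization to be finite -/
theorem isFinite_normalization_of_alteration (hdim : topologicalKrullDim Y = 1)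
    {X : Scheme.{u}} (g : X ⟶ Y) (halt : Curv2.IsAlteration g)
    (hreg : ∀ x : X, IsRegularLocalRing (X.presheaf.stalk x)) :
    IsFinite (Y.fromSpecStalk (genericPoint Y)).fromNormalization := by
  obtain ⟨hp, hX, -, hdom, V, hV, hfinV⟩ := halt
  haveI := hp
  haveI := hX
  haveI := hdom
  haveI := hfinV
  haveI : IsFinite g := isFinite_of_alteration g V hV (ringKrullDim_stalk_eq_one Y hdim)
  exact isFinite_normalization_of_finite_normal g
    (fun x => by haveI := hreg x; exact isIntegrallyClosed_of_isRegularLocalRing _)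

/-- a finite normalization is a resolution -/
theorem resolution_of_isFinite_normalization (hdim : topologicalKrullDim Y = 1)
    (hfin : IsFinite (Y.fromSpecStalk (genericPoint Y)).fromNormalization) :
    IsProper (Y.fromSpecStalk (genericPoint Y)).fromNormalization ∧
      IsIntegral (Y.fromSpecStalk (genericPoint Y)).normalization ∧
      (∃ V : Y.Opens, (V : Set Y).Nonempty ∧
        IsIso ((Y.fromSpecStalk (genericPoint Y)).fromNormalization ∣_ V)) ∧
      ∀ x : (Y.fromSpecStalk (genericPoint Y)).normalization,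
        IsRegularLocalRing ((Y.fromSpecStalk (genericPoint Y)).normalization.presheaf.stalk x) := by
  haveI := hfin
  obtain ⟨hint, hnormal, hgen, hbij⟩ :=
    Groth.Agent.Lib.Helper4.NormalizationField2.normalization_facts Y
  haveI := hint
  refine ⟨inferInstance, hint,
    Groth.Agent.Lib.Helper4.Japanese2.exists_open_isIso_of_finite_birational _ hgen hbij, ?_⟩
  intro x'
  haveI : IsLocallyNoetherian (Y.fromSpecStalk (genericPoint Y)).normalization :=
    LocallyOfFiniteType.isLocallyNoetherian (Y.fromSpecStalk (genericPoint Y)).fromNormalization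
  haveI : IsDomain ((Y.fromSpecStalk (genericPoint Y)).normalization.presheaf.stalk x') :=
    (hnormal x').1
  haveI : IsIntegrallyClosed ((Y.fromSpecStalk (genericPoint Y)).normalization.presheaf.stalk x') :=
    (hnormal x').2
  have hd : ringKrullDim ((Y.fromSpecStalk (genericPoint Y)).normalization.presheaf.stalk x') ≤ 1 := by
    refine (ringKrullDim_stalk_le_of_isIntegralHom
      (Y.fromSpecStalk (genericPoint Y)).fromNormalization x').trans ?_
    rw [← hdim]
    exact Groth.Agent.Lib.Helper4.BirationalNormal1.ringKrullDim_stalk_le_topologicalKrullDim Y _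
  exact Groth.Agent.Helper8.FlatReg.isRegularLocalRing_of_hasRk_of_dim_le 1
    (Groth.Agent.Helper8.FlatReg.hasRk_one_of_normal_domain _) (by exact_mod_cast hd)

/-- **S7321** -/
theorem main (hdim : topologicalKrullDim Y = 1) :
    ((∃ (X : Scheme.{u}) (g : X ⟶ Y), Curv2.IsAlteration g ∧
        ∀ x : X, IsRegularLocalRing (X.presheaf.stalk x)) ↔
      (∃ (X : Scheme.{u}) (g : X ⟶ Y), IsProper g ∧ IsIntegral X ∧
        (∃ V : Y.Opens, (V : Set Y).Nonempty ∧ IsIso (g ∣_ V)) ∧
        ∀ x : X, IsRegularLocalRing (X.presheaf.stalk x))) ∧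
    ((∃ (X : Scheme.{u}) (g : X ⟶ Y), IsProper g ∧ IsIntegral X ∧
        (∃ V : Y.Opens, (V : Set Y).Nonempty ∧ IsIso (g ∣_ V)) ∧
        ∀ x : X, IsRegularLocalRing (X.presheaf.stalk x)) ↔
      IsFinite (Curv2.normalizationι Y)) := by
  have hBA : (∃ (X : Scheme.{u}) (g : X ⟶ Y), IsProper g ∧ IsIntegral X ∧
        (∃ V : Y.Opens, (V : Set Y).Nonempty ∧ IsIso (g ∣_ V)) ∧
        ∀ x : X, IsRegularLocalRing (X.presheaf.stalk x)) →
      (∃ (X : Scheme.{u}) (g : X ⟶ Y), Curv2.IsAlteration g ∧
        ∀ x : X, IsRegularLocalRing (X.presheaf.stalk x)) := by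
    rintro ⟨X, g, hp, hX, ⟨V, hV, hiso⟩, hreg⟩
    exact ⟨X, g, isAlteration_of_resolution g hp hX V hV hiso, hreg⟩
  have hAC : (∃ (X : Scheme.{u}) (g : X ⟶ Y), Curv2.IsAlteration g ∧
        ∀ x : X, IsRegularLocalRing (X.presheaf.stalk x)) →
      IsFinite (Curv2.normalizationι Y) := by
    rintro ⟨X, g, halt, hreg⟩
    exact isFinite_normalization_of_alteration Y hdim g halt hreg
  have hCB : IsFinite (Curv2.normalizationι Y) →
      (∃ (X : Scheme.{u}) (g : X ⟶ Y), IsProper g ∧ IsIntegral X ∧
        (∃ V : Y.Opens, (V : Set Y).Nonempty ∧ IsIso (g ∣_ V)) ∧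
        ∀ x : X, IsRegularLocalRing (X.presheaf.stalk x)) := by
    intro hfin
    exact ⟨_, _, resolution_of_isFinite_normalization Y hdim hfin⟩
  exact ⟨⟨fun h => hCB (hAC h), hBA⟩, ⟨fun h => hAC (hBA h), hCB⟩⟩

end

end Groth.Agent.Helper2.ResolveCurve
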