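import Mathlib
import Groth.Agent.Lib.Helper8.FlatReg10

/-!
# helper2: lifting a ring map along a "birational integral" extension (ring part of the universal
property of the normalization)
-/

set_option autoImplicit false
set_option linter.style.haveILetI false
set_option linter.unusedSectionVars false
set_option linter.unusedVariables false
set_option backward.isDefEq.respectTransparency.types false
set_option synthInstance.maxHeartbeats 400000
set_option maxHeartbeats 4000000

universe u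

namespace Groth.Agent.Helper2.NormUniv

open Polynomial

section Alg

variable {A A' B : Type*} [CommRing A] [IsDomain A] [CommRing A'] [IsDomain A'] [CommRing B]
  (ν : A →+* A') (φ : A →+* B)

/-- uniqueness of an extension of `φ` along `ν` -/
theorem lift_unique (hfrac : ∀ x : A', ∃ s : A, s ≠ 0 ∧ ∃ a : A, ν s * x = ν a)
    (hnzd : ∀ s : A, s ≠ 0 → φ s ∈ nonZeroDivisors B)
    (ψ₁ ψ₂ : A' →+* B) (h₁ : ψ₁.comp ν = φ) (h₂ : ψ₂.comp ν = φ) : ψ₁ = ψ₂ := by
  ext x
  obtain ⟨s, hs, a, hsa⟩ := hfrac x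
  have e₁ : φ s * ψ₁ x = φ a := by
    have h1 : φ s = ψ₁ (ν s) := by rw [← h₁]; rfl
    have h2 : φ a = ψ₁ (ν a) := by rw [← h₁]; rfl
    rw [h1, h2, ← map_mul, hsa]
  have e₂ : φ s * ψ₂ x = φ a := by
    have h1 : φ s = ψ₂ (ν s) := by rw [← h₂]; rfl
    have h2 : φ a = ψ₂ (ν a) := by rw [← h₂]; rfl
    rw [h1, h2, ← map_mul, hsa]
  exact (mul_cancel_left_mem_nonZeroDivisors (hnzd s hs)).mp (e₁.trans e₂.symm)

/-- an integral element `x` with `ν s * x = ν a` gives a monic polynomial whose scaled version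
kills `a` -/
theorem exists_scaleRoots_eval_eq_zero (hν : Function.Injective ν) (x : A')
    (hx : ν.IsIntegralElem x) (s a : A) (hsa : ν s * x = ν a) :
    ∃ P : A[X], P.Monic ∧ (P.scaleRoots s).eval a = 0 := by
  obtain ⟨P, hP, hPx⟩ := hx
  refine ⟨P, hP, hν ?_⟩
  rw [map_zero]
  have h1 := Polynomial.scaleRoots_eval₂_mul (p := P) ν x s
  rw [hPx, mul_zero, hsa, Polynomial.eval₂_at_apply] at h1
  exact h1

/-- existence of an extension of `φ` along `ν` -/
theorem exists_lift (hν : Function.Injective ν) (hint : ν.IsIntegral)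
    (hfrac : ∀ x : A', ∃ s : A, s ≠ 0 ∧ ∃ a : A, ν s * x = ν a)
    (hnzd : ∀ s : A, s ≠ 0 → φ s ∈ nonZeroDivisors B)
    (hD : ∀ (P : A[X]) (s a : A), P.Monic → s ≠ 0 → (P.scaleRoots s).eval a = 0 → φ s ∣ φ a) :
    ∃ ψ : A' →+* B, ψ.comp ν = φ := by
  classical
  have key : ∀ x : A', ∃ b : B, ∀ (s a : A), s ≠ 0 → ν s * x = ν a → φ s * b = φ a := by
    intro x
    obtain ⟨s, hs, a, hsa⟩ := hfrac x
    obtain ⟨P, hP, hPe⟩ := exists_scaleRoots_eval_eq_zero ν hν x (hint x) s a hsa
    obtain ⟨b, hb⟩ := hD P s a hP hs hPe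
    refine ⟨b, fun s' a' hs' hsa' => ?_⟩
    have h1 : s * a' = s' * a := by
      apply hν
      rw [map_mul, map_mul, ← hsa', ← hsa]; ring
    have h2 : φ s * (φ s' * b) = φ s * φ a' := by
      calc φ s * (φ s' * b) = φ s' * (φ s * b) := by ring
        _ = φ s' * φ a := by rw [← hb]
        _ = φ (s' * a) := (map_mul _ _ _).symm
        _ = φ (s * a') := by rw [h1]
        _ = φ s * φ a' := map_mul _ _ _
    exact (mul_cancel_left_mem_nonZeroDivisors (hnzd s hs)).mp h2
  choose f hf using key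
  have huniq : ∀ (x : A') (b : B) (s a : A), s ≠ 0 → ν s * x = ν a → φ s * b = φ a →
      b = f x := by
    intro x b s a hs hsa hb
    exact (mul_cancel_left_mem_nonZeroDivisors (hnzd s hs)).mp
      (hb.trans (hf x s a hs hsa).symm)
  refine ⟨{ toFun := f, map_one' := ?_, map_mul' := ?_, map_zero' := ?_, map_add' := ?_ }, ?_⟩
  · exact (huniq 1 1 1 1 one_ne_zero (by simp) (by simp)).symm
  · intro x y
    obtain ⟨s, hs, a, hsa⟩ := hfrac x
    obtain ⟨t, ht, c, htc⟩ := hfrac y
    refine (huniq (x * y) (f x * f y) (s * t) (a * c) (mul_ne_zero hs ht) ?_ ?_).symm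
    · rw [map_mul, map_mul, ← hsa, ← htc]; ring
    · rw [map_mul, map_mul, ← hf x s a hs hsa, ← hf y t c ht htc]; ring
  · exact (huniq 0 0 1 0 one_ne_zero (by simp) (by simp)).symm
  · intro x y
    obtain ⟨s, hs, a, hsa⟩ := hfrac x
    obtain ⟨t, ht, c, htc⟩ := hfrac y
    refine (huniq (x + y) (f x + f y) (s * t) (a * t + c * s) (mul_ne_zero hs ht) ?_ ?_).symm
    · rw [map_mul, map_add, map_mul, map_mul, ← hsa, ← htc]; ring
    · rw [map_mul, map_add, map_mul, map_mul, ← hf x s a hs hsa, ← hf y t c ht htc]; ring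
  · ext a
    simp only [RingHom.comp_apply, RingHom.coe_mk, MonoidHom.coe_mk, OneHom.coe_mk]
    exact (huniq (ν a) (φ a) 1 a one_ne_zero (by simp) (by simp)).symm

end Alg

section Dvd

variable {A D : Type*} [CommRing A] [CommRing D] [IsDomain D] [IsIntegrallyClosed D]

/-- divisibility in an integrally closed domain from a scaled monic equation upstairs -/
theorem dvd_of_scaleRoots (θ : A →+* D) (P : A[X]) (hP : P.Monic) (s a : A) (hs : θ s ≠ 0)
    (hPe : (P.scaleRoots s).eval a = 0) : θ s ∣ θ a := by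
  refine Groth.Agent.Helper8.FlatReg.dvd_of_eval_scaleRoots_eq_zero (P.map θ) (hP.map θ)
    (θ a) (θ s) hs ?_
  have h1 : (P.map θ).scaleRoots (θ s) = (P.scaleRoots s).map θ := by
    rw [Polynomial.map_scaleRoots]
    rw [hP.leadingCoeff, map_one]
    exact one_ne_zero
  rw [h1, Polynomial.eval_map, Polynomial.eval₂_at_apply, hPe, map_zero]

end Dvd

end Groth.Agent.Helper2.NormUniv
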