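import Mathlib
import Groth.Prelude.Def_Curv2
import Groth.Prelude.Def_Pi1
import Groth.Agent.Lib.Helper2.Norm.UnivAlg
import Groth.Agent.Lib.Helper4.NormalizationField1
import Groth.Agent.Lib.Helper4.NormalizationField2

/-!
# helper2: the universal property of the normalization of an integral scheme
(morphisms from normal schemes all of whose components dominate)
-/

set_option autoImplicit false
set_option linter.style.haveILetI false
set_option linter.unusedSectionVars false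
set_option linter.unusedVariables false
set_option backward.isDefEq.respectTransparency.types false
set_option synthInstance.maxHeartbeats 400000
set_option maxHeartbeats 4000000

universe u

open CategoryTheory CategoryTheory.Limits AlgebraicGeometry TopologicalSpace Opposite Polynomial

namespace Groth.Agent.Helper2.NormUniv

section Basic

variable {X : Scheme.{u}} [IsIntegral X]

theorem isUnit_germ_of_eq_genericPoint (U : X.Opens) (s : Γ(X, U)) (hs : s ≠ 0)
    (x : X) (hx : x ∈ U) (hxη : x = genericPoint X) : IsUnit (X.presheaf.germ U x hx s) := by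
  subst hxη
  rw [← Scheme.mem_basicOpen]
  refine ((genericPoint_spec X).mem_open_set_iff (X.basicOpen s).isOpen).mpr ?_
  have h1 : X.basicOpen s ≠ ⊥ := fun h => hs ((basicOpen_eq_bot_iff s).mp h)
  have h2 : ((X.basicOpen s : X.Opens) : Set X).Nonempty := by
    rw [Set.nonempty_iff_ne_empty]
    intro h
    exact h1 (Opens.ext (by simpa using h))
  simpa using h2

theorem exists_frac_of_eq_genericPoint (U : X.Opens) (hU : IsAffineOpen U) (x₀ : X) (hx₀ : x₀ ∈ U)
    (h : x₀ = genericPoint X) (y : X.presheaf.stalk x₀) :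
    ∃ s : Γ(X, U), s ≠ 0 ∧ ∃ a : Γ(X, U),
      X.presheaf.germ U x₀ hx₀ s * y = X.presheaf.germ U x₀ hx₀ a := by
  subst h
  haveI : Nonempty U := ⟨⟨_, hx₀⟩⟩
  haveI := functionField_isFractionRing_of_isAffineOpen X U hU
  obtain ⟨⟨a, s⟩, hsa⟩ := IsLocalization.surj (nonZeroDivisors Γ(X, U)) (y : X.functionField)
  refine ⟨s.1, nonZeroDivisors.ne_zero s.2, a, ?_⟩
  rw [mul_comm]
  exact hsa

end Basic

section Src

variable {X Z : Scheme.{u}} [IsIntegral X] (g : Z ⟶ X)

theorem germ_appLE (U : X.Opens) (W : Z.Opens) (e : W ≤ g ⁻¹ᵁ U) (w : Z) (hw : w ∈ W)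
    (s : Γ(X, U)) :
    Z.presheaf.germ W w hw (g.appLE U W e s) =
      g.stalkMap w (X.presheaf.germ U (g w) (e hw) s) := by
  rw [Scheme.Hom.germ_stalkMap_apply, Scheme.Hom.appLE, CommRingCat.comp_apply]
  exact TopCat.Presheaf.germ_res_apply _ (homOfLE e) w hw _

theorem germ_appLE_eq (U : X.Opens) (W V : Z.Opens) (e : W ≤ g ⁻¹ᵁ U) (hVW : V ≤ W) (w : Z)
    (hwV : w ∈ V) (t : Γ(X, U)) :
    Z.presheaf.germ V w hwV (g.appLE U V (hVW.trans e) t) =
      Z.presheaf.germ W w (hVW hwV) (g.appLE U W e t) := by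
  rw [germ_appLE, germ_appLE]

theorem appLE_res (U : X.Opens) (W V : Z.Opens) (e : W ≤ g ⁻¹ᵁ U) (i : V ⟶ W) (t : Γ(X, U)) :
    g.appLE U V (i.le.trans e) t = Z.presheaf.map i.op (g.appLE U W e t) := by
  rw [← Scheme.Hom.appLE_map g e i.op, CommRingCat.comp_apply]

theorem germ_appLE_ne_zero (hgen : ∀ w : Z, ∃ z : Z, z ⤳ w ∧ g z = genericPoint X)
    (U : X.Opens) (s : Γ(X, U)) (hs : s ≠ 0) (W : Z.Opens) (e : W ≤ g ⁻¹ᵁ U) (w : Z)
    (hw : w ∈ W) :
    Z.presheaf.germ W w hw (g.appLE U W e s) ≠ 0 := by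
  obtain ⟨z, hzw, hz⟩ := hgen w
  intro h0
  have hzW : z ∈ W := hzw.mem_open W.isOpen hw
  have h1 : Z.presheaf.germ W z hzW (g.appLE U W e s) = 0 := by
    have := congrArg (fun φ => φ.hom (g.appLE U W e s))
      (Z.presheaf.germ_stalkSpecializes hw hzw)
    simp only [CommRingCat.hom_comp, RingHom.comp_apply] at this
    rw [← this]
    exact (congrArg _ h0).trans (map_zero _)
  rw [germ_appLE] at h1
  have hu := isUnit_germ_of_eq_genericPoint U s hs (g z) (e hzW) hz
  have hu' : IsUnit (g.stalkMap z (X.presheaf.germ U (g z) (e hzW) s)) :=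
    hu.map (g.stalkMap z).hom
  rw [h1] at hu'
  exact not_isUnit_zero hu'

theorem germ_dvd (hN : Pi1.IsNormalScheme Z)
    (hgen : ∀ w : Z, ∃ z : Z, z ⤳ w ∧ g z = genericPoint X)
    (U : X.Opens) (P : Γ(X, U)[X]) (hP : P.Monic) (s a : Γ(X, U)) (hs : s ≠ 0)
    (hPe : (P.scaleRoots s).eval a = 0) (W : Z.Opens) (e : W ≤ g ⁻¹ᵁ U) (w : Z) (hw : w ∈ W) :
    Z.presheaf.germ W w hw (g.appLE U W e s) ∣ Z.presheaf.germ W w hw (g.appLE U W e a) := by
  haveI := (hN w).1
  haveI := (hN w).2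
  exact dvd_of_scaleRoots ((Z.presheaf.germ W w hw).hom.comp (g.appLE U W e).hom) P hP s a
    (germ_appLE_ne_zero g hgen U s hs W e w hw) hPe

theorem appLE_mem_nonZeroDivisors (hN : Pi1.IsNormalScheme Z)
    (hgen : ∀ w : Z, ∃ z : Z, z ⤳ w ∧ g z = genericPoint X)
    (U : X.Opens) (s : Γ(X, U)) (hs : s ≠ 0) (W : Z.Opens) (e : W ≤ g ⁻¹ᵁ U) :
    (g.appLE U W e).hom s ∈ nonZeroDivisors Γ(Z, W) := by
  rw [mem_nonZeroDivisors_iff_left]
  intro b hb
  refine TopCat.Presheaf.section_ext Z.sheaf W b 0 fun w hw => ?_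
  change Z.presheaf.germ W w hw b = Z.presheaf.germ W w hw 0
  rw [map_zero]
  have h1 : Z.presheaf.germ W w hw (g.appLE U W e s) * Z.presheaf.germ W w hw b = 0 := by
    rw [← map_mul]
    exact (congrArg _ hb).trans (map_zero _)
  haveI := (hN w).1
  exact (mul_eq_zero.mp h1).resolve_left (germ_appLE_ne_zero g hgen U s hs W e w hw)

theorem exists_section_mul_eq (hN : Pi1.IsNormalScheme Z)
    (hgen : ∀ w : Z, ∃ z : Z, z ⤳ w ∧ g z = genericPoint X)
    (U : X.Opens) (P : Γ(X, U)[X]) (hP : P.Monic) (s a : Γ(X, U)) (hs : s ≠ 0)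
    (hPe : (P.scaleRoots s).eval a = 0) (W : Z.Opens) (e : W ≤ g ⁻¹ᵁ U) :
    (g.appLE U W e).hom s ∣ (g.appLE U W e).hom a := by
  have hloc : ∀ w : W, ∃ (V : Z.Opens) (hVW : V ≤ W) (_ : w.1 ∈ V) (c : Γ(Z, V)),
      (g.appLE U V (hVW.trans e)).hom s * c = (g.appLE U V (hVW.trans e)).hom a := by
    rintro ⟨w, hw⟩
    obtain ⟨β, hβ⟩ := germ_dvd g hN hgen U P hP s a hs hPe W e w hw
    obtain ⟨V, hVW, hwV, c, hc⟩ := Z.presheaf.exists_le_germ_eq β hw
    have h1 : Z.presheaf.germ V w hwV ((g.appLE U V (hVW.trans e)).hom s * c) =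
        Z.presheaf.germ V w hwV ((g.appLE U V (hVW.trans e)).hom a) := by
      rw [map_mul, hc]
      exact ((congrArg (· * β) (germ_appLE_eq g U W V e hVW w hwV s)).trans hβ.symm).trans
        (germ_appLE_eq g U W V e hVW w hwV a).symm
    obtain ⟨V', hwV', i₁, i₂, h2⟩ := Z.presheaf.germ_eq w hwV hwV _ _ h1
    obtain rfl : i₁ = i₂ := Subsingleton.elim _ _
    refine ⟨V', i₁.le.trans hVW, hwV', Z.presheaf.map i₁.op c, ?_⟩
    have e1 := appLE_res g U V V' (hVW.trans e) i₁
    calc (g.appLE U V' ((i₁.le.trans hVW).trans e)).hom s * Z.presheaf.map i₁.op c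
        = Z.presheaf.map i₁.op ((g.appLE U V (hVW.trans e)).hom s * c) := by
          rw [map_mul]; exact congrArg (· * _) (e1 s)
      _ = Z.presheaf.map i₁.op ((g.appLE U V (hVW.trans e)).hom a) := h2
      _ = (g.appLE U V' ((i₁.le.trans hVW).trans e)).hom a := (e1 a).symm
  choose V hVW hwV c hc using hloc
  have hcompat : TopCat.Presheaf.IsCompatible Z.presheaf V c := by
    intro i j
    have hnz := appLE_mem_nonZeroDivisors g hN hgen U s hs (V i ⊓ V j)
      ((inf_le_left.trans (hVW i)).trans e)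
    apply (mul_cancel_left_mem_nonZeroDivisors hnz).mp
    have e1 := appLE_res g U (V i) (V i ⊓ V j) ((hVW i).trans e) (Opens.infLELeft (V i) (V j))
    have e2 := appLE_res g U (V j) (V i ⊓ V j) ((hVW j).trans e) (Opens.infLERight (V i) (V j))
    calc (g.appLE U (V i ⊓ V j) ((inf_le_left.trans (hVW i)).trans e)).hom s *
          Z.presheaf.map (Opens.infLELeft (V i) (V j)).op (c i)
        = Z.presheaf.map (Opens.infLELeft (V i) (V j)).op
            ((g.appLE U (V i) ((hVW i).trans e)).hom s * c i) := by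
          rw [map_mul]; exact congrArg (· * _) (e1 s)
      _ = Z.presheaf.map (Opens.infLELeft (V i) (V j)).op
            ((g.appLE U (V i) ((hVW i).trans e)).hom a) := by rw [hc i]
      _ = (g.appLE U (V i ⊓ V j) ((inf_le_left.trans (hVW i)).trans e)).hom a := (e1 a).symm
      _ = Z.presheaf.map (Opens.infLERight (V i) (V j)).op
            ((g.appLE U (V j) ((hVW j).trans e)).hom a) := e2 a
      _ = Z.presheaf.map (Opens.infLERight (V i) (V j)).op
            ((g.appLE U (V j) ((hVW j).trans e)).hom s * c j) := by rw [hc j]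
      _ = (g.appLE U (V i ⊓ V j) ((inf_le_left.trans (hVW i)).trans e)).hom s *
          Z.presheaf.map (Opens.infLERight (V i) (V j)).op (c j) := by
          rw [map_mul]; exact congrArg (· * _) (e2 s).symm
  have hcov : W ≤ iSup V := fun w hw => Opens.mem_iSup.mpr ⟨⟨w, hw⟩, hwV ⟨w, hw⟩⟩
  obtain ⟨b, hb, -⟩ : ∃! b : Γ(Z, W), ∀ i, Z.presheaf.map (homOfLE (hVW i)).op b = c i :=
    Z.sheaf.existsUnique_gluing' V W (fun i => homOfLE (hVW i)) hcov c hcompat
  refine ⟨b, ?_⟩
  refine TopCat.Presheaf.section_ext Z.sheaf W ((g.appLE U W e).hom a)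
    ((g.appLE U W e).hom s * b) fun w hw => ?_
  change Z.presheaf.germ W w hw ((g.appLE U W e).hom a) =
    Z.presheaf.germ W w hw ((g.appLE U W e).hom s * b)
  have hbw := hb ⟨w, hw⟩
  have e1 := appLE_res g U W (V ⟨w, hw⟩) e (homOfLE (hVW ⟨w, hw⟩))
  have h3 : Z.presheaf.map (homOfLE (hVW ⟨w, hw⟩)).op ((g.appLE U W e).hom a) =
      Z.presheaf.map (homOfLE (hVW ⟨w, hw⟩)).op ((g.appLE U W e).hom s * b) := by
    rw [map_mul]
    exact ((e1 a).symm.trans (hc ⟨w, hw⟩).symm).trans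
      ((congrArg (· * _) (e1 s)).trans (congrArg (_ * ·) hbw.symm))
  have h4 := congrArg (Z.presheaf.germ (V ⟨w, hw⟩) w (hwV ⟨w, hw⟩)) h3
  rw [TopCat.Presheaf.germ_res_apply, TopCat.Presheaf.germ_res_apply] at h4
  exact h4

end Src

end Groth.Agent.Helper2.NormUniv
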