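import Mathlib
import Groth.Agent.Lib.Helper2.Norm.UnivSch

/-!
# helper2: the universal property of the normalization of an integral scheme, main statements
-/

set_option autoImplicit false
set_option linter.style.haveILetI false
set_option linter.unusedSectionVars false
set_option linter.unusedVariables false
set_option backward.isDefEq.respectTransparency.types false
set_option synthInstance.maxHeartbeats 400000
set_option maxHeartbeats 4000000

universe u

open CategoryTheory CategoryTheory.Limits AlgebraicGeometry TopologicalSpace Opposite Polynomial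

namespace Groth.Agent.Helper2.NormUniv

section Inherit

theorem normal_of_isOpenImmersion {T Z : Scheme.{u}} (j : T ⟶ Z) [IsOpenImmersion j]
    (hN : Pi1.IsNormalScheme Z) : Pi1.IsNormalScheme T := by
  intro t
  let e' : Z.presheaf.stalk (j t) ≃+* T.presheaf.stalk t :=
    (asIso (j.stalkMap t)).commRingCatIsoToRingEquiv
  haveI := (hN (j t)).1
  haveI := (hN (j t)).2
  exact ⟨MulEquiv.isDomain (Z.presheaf.stalk (j t)) e'.symm.toMulEquiv,
    IsIntegrallyClosed.of_equiv (R := Z.presheaf.stalk (j t)) e'⟩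

theorem hgen_of_isOpenImmersion {T Z X : Scheme.{u}} (j : T ⟶ Z) [IsOpenImmersion j] (g : Z ⟶ X)
    (η : X) (hgen : ∀ w : Z, ∃ z : Z, z ⤳ w ∧ g z = η) :
    ∀ t : T, ∃ t' : T, t' ⤳ t ∧ (j ≫ g) t' = η := by
  intro t
  obtain ⟨z, hz, hzη⟩ := hgen (j t)
  have hr : z ∈ Set.range j := hz.mem_open j.isOpenEmbedding.isOpen_range ⟨t, rfl⟩
  obtain ⟨t', rfl⟩ := hr
  exact ⟨t', j.isOpenEmbedding.isInducing.specializes_iff.mp hz, by simpa using hzη⟩

theorem hgen_of_hdom {Z X : Scheme.{u}} (g : Z ⟶ X) (η : X)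
    (hdom : ∀ z : Z, closure {z} ∈ irreducibleComponents Z → g z = η) :
    ∀ w : Z, ∃ z : Z, z ⤳ w ∧ g z = η := by
  intro w
  obtain ⟨z, hz⟩ := QuasiSober.sober (isIrreducible_irreducibleComponent (x := w))
    isClosed_irreducibleComponent
  refine ⟨z, ?_, hdom z ?_⟩
  · exact specializes_iff_mem_closure.mpr (hz.def.symm ▸ mem_irreducibleComponent)
  · rw [hz.def]; exact irreducibleComponent_mem_irreducibleComponents w

theorem appLE_congr_hom {T X : Scheme.{u}} {f f' : T ⟶ X} (h : f = f') (U : X.Opens)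
    (W : T.Opens) (e : W ≤ f ⁻¹ᵁ U) (e' : W ≤ f' ⁻¹ᵁ U) : f.appLE U W e = f'.appLE U W e' := by
  subst h; rfl

end Inherit

section Nu

variable (X : Scheme.{u}) [IsIntegral X] [QuasiCompact (X.fromSpecStalk (genericPoint X))]
  [QuasiSeparated (X.fromSpecStalk (genericPoint X))]

instance : IsIntegralHom (Curv2.normalizationι X) :=
  inferInstanceAs (IsIntegralHom (X.fromSpecStalk (genericPoint X)).fromNormalization)

theorem nu_facts (U : X.Opens) (hU : IsAffineOpen U) (hη : genericPoint X ∈ U) :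
    ∃ (_ : IsIntegral (Curv2.normalization X)),
      genericPoint (Curv2.normalization X) ∈ (Curv2.normalizationι X) ⁻¹ᵁ U ∧
      Function.Injective ((Curv2.normalizationι X).app U).hom ∧
      ((Curv2.normalizationι X).app U).hom.IsIntegral ∧
      ∀ x : Γ(Curv2.normalization X, (Curv2.normalizationι X) ⁻¹ᵁ U),
        ∃ s : Γ(X, U), s ≠ 0 ∧ ∃ a : Γ(X, U),
          ((Curv2.normalizationι X).app U).hom s * x = ((Curv2.normalizationι X).app U).hom a := by
  obtain ⟨hint, -, hgen, hbij⟩ := Groth.Agent.Lib.Helper4.NormalizationField2.normalization_facts X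
  haveI : IsIntegral (Curv2.normalization X) := hint
  change (Curv2.normalizationι X) (genericPoint (Curv2.normalization X)) = genericPoint X at hgen
  change Function.Bijective ((Curv2.normalizationι X).stalkMap
    (genericPoint (Curv2.normalization X))).hom at hbij
  set ν := Curv2.normalizationι X with hν
  set ξ := genericPoint (Curv2.normalization X) with hξdef
  have hξ : ξ ∈ ν ⁻¹ᵁ U := by
    change ν ξ ∈ U
    rw [hgen]; exact hη
  have hinjg : Function.Injective ((Curv2.normalization X).presheaf.germ (ν ⁻¹ᵁ U) ξ hξ) :=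
    germ_injective_of_isIntegral _ ξ hξ
  have hkey : ∀ t : Γ(X, U), (Curv2.normalization X).presheaf.germ (ν ⁻¹ᵁ U) ξ hξ (ν.app U t) =
      ν.stalkMap ξ (X.presheaf.germ U (ν ξ) hξ t) := fun t =>
    (Scheme.Hom.germ_stalkMap_apply ν U ξ hξ t).symm
  refine ⟨hint, hξ, ?_, Scheme.Hom.isIntegral_app ν U hU, ?_⟩
  · rw [injective_iff_map_eq_zero]
    intro t ht
    have h1 : ν.stalkMap ξ (X.presheaf.germ U (ν ξ) hξ t) = 0 := by
      rw [← hkey]
      exact (congrArg _ ht).trans (map_zero _)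
    have h2 : X.presheaf.germ U (ν ξ) hξ t = 0 :=
      hbij.injective (h1.trans (map_zero _).symm)
    exact germ_injective_of_isIntegral X (ν ξ) hξ (h2.trans (map_zero _).symm)
  · intro x
    obtain ⟨y, hy⟩ := hbij.surjective ((Curv2.normalization X).presheaf.germ (ν ⁻¹ᵁ U) ξ hξ x)
    obtain ⟨s, hs, a, hsa⟩ := exists_frac_of_eq_genericPoint U hU (ν ξ) hξ hgen y
    refine ⟨s, hs, a, hinjg ?_⟩
    rw [map_mul]
    have h3 := congrArg (ν.stalkMap ξ).hom hsa
    rw [map_mul] at h3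
    exact ((congrArg₂ (· * ·) (hkey s) hy.symm).trans h3).trans (hkey a).symm

end Nu

section Uniq

variable (X : Scheme.{u}) [IsIntegral X] [QuasiCompact (X.fromSpecStalk (genericPoint X))]
  [QuasiSeparated (X.fromSpecStalk (genericPoint X))]

theorem mem_of_nonempty (U : X.Opens) (x : X) (hx : x ∈ U) : genericPoint X ∈ U :=
  ((genericPoint_spec X).mem_open_set_iff U.isOpen).mpr ⟨x, trivial, hx⟩

theorem hom_unique {T : Scheme.{u}} (g : T ⟶ X) (hN : Pi1.IsNormalScheme T)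
    (hgen : ∀ w : T, ∃ z : T, z ⤳ w ∧ g z = genericPoint X)
    (k₁ k₂ : T ⟶ Curv2.normalization X) (h₁ : k₁ ≫ Curv2.normalizationι X = g)
    (h₂ : k₂ ≫ Curv2.normalizationι X = g) : k₁ = k₂ := by
  apply Scheme.hom_ext_of_forall
  intro t
  obtain ⟨U, hUaff, htU, -⟩ := Opens.isBasis_iff_nbhd.mp X.isBasis_affineOpens
    (show g t ∈ (⊤ : X.Opens) from trivial)
  obtain ⟨W', hW'aff, htW', hW'U⟩ := Opens.isBasis_iff_nbhd.mp T.isBasis_affineOpens
    (show t ∈ g ⁻¹ᵁ U from htU)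
  refine ⟨W', htW', ?_⟩
  have hη : genericPoint X ∈ U := mem_of_nonempty X U _ htU
  obtain ⟨hint, hξ, hinj, hintegral, hfrac⟩ := nu_facts X U hUaff hη
  haveI : IsIntegral (Curv2.normalization X) := hint
  set ν := Curv2.normalizationι X with hν
  have hV : IsAffineOpen (ν ⁻¹ᵁ U) := hUaff.preimage ν
  haveI : Nonempty U := ⟨⟨_, hη⟩⟩
  haveI : Nonempty (ν ⁻¹ᵁ U : (Curv2.normalization X).Opens) := ⟨⟨_, hξ⟩⟩
  have e₁ : W' ≤ k₁ ⁻¹ᵁ (ν ⁻¹ᵁ U) := by
    rw [← Scheme.Hom.comp_preimage, h₁]; exact hW'U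
  have e₂ : W' ≤ k₂ ⁻¹ᵁ (ν ⁻¹ᵁ U) := by
    rw [← Scheme.Hom.comp_preimage, h₂]; exact hW'U
  have c₁ : (k₁.appLE (ν ⁻¹ᵁ U) W' e₁).hom.comp (ν.app U).hom = (g.appLE U W' hW'U).hom := by
    rw [← CommRingCat.hom_comp, Scheme.Hom.app_eq_appLE, Scheme.Hom.appLE_comp_appLE]
    exact congrArg _ (appLE_congr_hom h₁ U W' _ _)
  have c₂ : (k₂.appLE (ν ⁻¹ᵁ U) W' e₂).hom.comp (ν.app U).hom = (g.appLE U W' hW'U).hom := by
    rw [← CommRingCat.hom_comp, Scheme.Hom.app_eq_appLE, Scheme.Hom.appLE_comp_appLE]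
    exact congrArg _ (appLE_congr_hom h₂ U W' _ _)
  have key : k₁.appLE (ν ⁻¹ᵁ U) W' e₁ = k₂.appLE (ν ⁻¹ᵁ U) W' e₂ := by
    apply CommRingCat.hom_ext
    exact lift_unique (ν.app U).hom (g.appLE U W' hW'U).hom hfrac
      (fun s hs => appLE_mem_nonZeroDivisors g hN hgen U s hs W' hW'U) _ _ c₁ c₂
  have h3 : hW'aff.fromSpec ≫ k₁ = hW'aff.fromSpec ≫ k₂ := by
    rw [← IsAffineOpen.SpecMap_appLE_fromSpec k₁ hV hW'aff e₁,
      ← IsAffineOpen.SpecMap_appLE_fromSpec k₂ hV hW'aff e₂, key]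
  rw [← IsAffineOpen.isoSpec_inv_ι, Category.assoc, Category.assoc] at h3
  exact (cancel_epi _).mp h3

end Uniq

end Groth.Agent.Helper2.NormUniv
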