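import Mathlib
import Groth.Agent.Lib.Helper2.Norm.UnivMain

/-!
# helper2: the universal property of the normalization of an integral scheme, existence and main
-/

set_option autoImplicit false
set_option linter.style.haveILetI false
set_option linter.unusedSectionVars false
set_option linter.unusedVariables false
set_option backward.isDefEq.respectTransparency.types false
set_option synthInstance.maxHeartbeats 400000
set_option maxHeartbeats 4000000

universe u

open CategoryTheory CategoryTheory.Limits AlgebraicGeometry TopologicalSpace Opposite Polynomial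

namespace Groth.Agent.Helper2.NormUniv

section Exist

variable (X : Scheme.{u}) [IsIntegral X] [QuasiCompact (X.fromSpecStalk (genericPoint X))]
  [QuasiSeparated (X.fromSpecStalk (genericPoint X))]

theorem hom_exists_local {Z : Scheme.{u}} (g : Z ⟶ X) (hN : Pi1.IsNormalScheme Z)
    (hgen : ∀ w : Z, ∃ z : Z, z ⤳ w ∧ g z = genericPoint X)
    (U : X.Opens) (hU : IsAffineOpen U) (hη : genericPoint X ∈ U) :
    ∃ hi : ((g ⁻¹ᵁ U : Z.Opens) : Scheme.{u}) ⟶ Curv2.normalization X,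
      hi ≫ Curv2.normalizationι X = (g ⁻¹ᵁ U).ι ≫ g := by
  obtain ⟨hint, hξ, hinj, hintegral, hfrac⟩ := nu_facts X U hU hη
  haveI : IsIntegral (Curv2.normalization X) := hint
  set ν := Curv2.normalizationι X with hν
  have hV : IsAffineOpen (ν ⁻¹ᵁ U) := hU.preimage ν
  haveI : Nonempty U := ⟨⟨_, hη⟩⟩
  haveI : Nonempty (ν ⁻¹ᵁ U : (Curv2.normalization X).Opens) := ⟨⟨_, hξ⟩⟩
  obtain ⟨ψ, hψ⟩ := exists_lift (ν.app U).hom (g.appLE U (g ⁻¹ᵁ U) le_rfl).hom hinj hintegral hfrac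
    (fun s hs => appLE_mem_nonZeroDivisors g hN hgen U s hs (g ⁻¹ᵁ U) le_rfl)
    (fun P s a hP hs hPe => exists_section_mul_eq g hN hgen U P hP s a hs hPe (g ⁻¹ᵁ U) le_rfl)
  have h1 : ν.appLE U (ν ⁻¹ᵁ U) le_rfl ≫ CommRingCat.ofHom ψ = g.app U := by
    rw [Scheme.Hom.appLE_eq_app, ← Scheme.Hom.appLE_eq_app g]
    apply CommRingCat.hom_ext
    exact hψ
  refine ⟨(g ⁻¹ᵁ U).toSpecΓ ≫ Spec.map (CommRingCat.ofHom ψ) ≫ hV.fromSpec, ?_⟩
  rw [Category.assoc, Category.assoc, ← IsAffineOpen.SpecMap_appLE_fromSpec ν hU hV le_rfl,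
    ← Spec.map_comp_assoc, h1, Scheme.Opens.toSpecΓ_naturality_assoc,
    IsAffineOpen.toSpecΓ_fromSpec, morphismRestrict_ι]

theorem hom_exists {Z : Scheme.{u}} (g : Z ⟶ X) (hN : Pi1.IsNormalScheme Z)
    (hgen : ∀ w : Z, ∃ z : Z, z ⤳ w ∧ g z = genericPoint X) :
    ∃ h : Z ⟶ Curv2.normalization X, h ≫ Curv2.normalizationι X = g := by
  let ι := {U : X.Opens // IsAffineOpen U ∧ genericPoint X ∈ U}
  have hcov : IsOpenCover (fun i : ι => g ⁻¹ᵁ i.1) := by
    apply eq_top_iff.mpr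
    intro z _
    obtain ⟨U, hUaff, hzU, -⟩ := Opens.isBasis_iff_nbhd.mp X.isBasis_affineOpens
      (show g z ∈ (⊤ : X.Opens) from trivial)
    exact Opens.mem_iSup.mpr ⟨⟨U, hUaff, mem_of_nonempty X U _ hzU⟩, hzU⟩
  let 𝒰 : Z.OpenCover := Z.openCoverOfIsOpenCover _ hcov
  have hloc : ∀ i : 𝒰.I₀, ∃ hi : 𝒰.X i ⟶ Curv2.normalization X,
      hi ≫ Curv2.normalizationι X = 𝒰.f i ≫ g := fun i =>
    hom_exists_local X g hN hgen i.1 i.2.1 i.2.2
  choose hh hhs using hloc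
  refine ⟨𝒰.glueMorphisms hh ?_, ?_⟩
  · intro i j
    refine hom_unique X (pullback.fst (𝒰.f i) (𝒰.f j) ≫ 𝒰.f i ≫ g)
      (normal_of_isOpenImmersion (pullback.fst (𝒰.f i) (𝒰.f j) ≫ 𝒰.f i) hN) ?_ _ _ ?_ ?_
    · have := hgen_of_isOpenImmersion (pullback.fst (𝒰.f i) (𝒰.f j) ≫ 𝒰.f i) g _ hgen
      simpa only [Category.assoc] using this
    · rw [Category.assoc, hhs]
    · rw [Category.assoc, hhs, pullback.condition_assoc]
  · apply 𝒰.hom_ext
    intro i
    rw [Scheme.Cover.ι_glueMorphisms_assoc, hhs]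

theorem main {Z : Scheme.{u}} (g : Z ⟶ X) (hZ : Pi1.IsNormalScheme Z)
    (hdom : ∀ z : Z, closure {z} ∈ irreducibleComponents ↥Z → g.base z = genericPoint ↥X) :
    ∃! h : Z ⟶ Curv2.normalization X, h ≫ Curv2.normalizationι X = g := by
  have hgen := hgen_of_hdom g (genericPoint X) hdom
  obtain ⟨h, hh⟩ := hom_exists X g hZ hgen
  exact ⟨h, hh, fun h' hh' => hom_unique X g hZ hgen h' h hh' hh⟩

end Exist

end Groth.Agent.Helper2.NormUniv
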