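import Mathlib
import Groth.Agent.Lib.Helper2.Norm.UnivExist
import Groth.Agent.Lib.Helper6.Normal.Scheme
import Groth.Agent.Lib.Helper4.FibDim7

/-!
# helper2: the normalization of an integral scheme commutes with smooth base change
-/

set_option autoImplicit false
set_option linter.style.haveILetI false
set_option linter.unusedSectionVars false
set_option linter.unusedVariables false
set_option backward.isDefEq.respectTransparency.types false
set_option synthInstance.maxHeartbeats 400000
set_option maxHeartbeats 4000000

universe u

open CategoryTheory CategoryTheory.Limits AlgebraicGeometry TopologicalSpace Opposite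

namespace Groth.Agent.Helper2.NormSmooth

open Groth.Agent.Helper2.NormUniv

theorem isNormalScheme_Spec_of_isField (R : CommRingCat.{u}) (hR : IsField R) :
    Pi1.IsNormalScheme (Spec R) := by
  intro x
  refine (Groth.Agent.Lib.Helper6.Normal.isNormalRing_iff_affine
    (isAffineOpen_top (Spec R))).mp ?_ x trivial
  let e : Γ(Spec R, ⊤) ≃+* R := (Scheme.ΓSpecIso R).commRingCatIsoToRingEquiv
  have hΓ : IsField Γ(Spec R, ⊤) := MulEquiv.isField hR e.toMulEquiv
  letI := hΓ.toField
  intro p hp
  exact ⟨inferInstance, isIntegrallyClosed_of_isLocalization _ p.primeCompl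
    (Ideal.primeCompl_le_nonZeroDivisors p)⟩

section One

variable (X : Scheme.{u}) [IsIntegral X] [QuasiCompact (X.fromSpecStalk (genericPoint X))]
  [QuasiSeparated (X.fromSpecStalk (genericPoint X))]

theorem hgen_fromSpecStalk :
    ∀ w : Spec (X.presheaf.stalk (genericPoint X)),
      ∃ z : Spec (X.presheaf.stalk (genericPoint X)),
        z ⤳ w ∧ (X.fromSpecStalk (genericPoint X)) z = genericPoint X := by
  intro w
  refine ⟨w, specializes_rfl, ?_⟩
  have h1 : (X.fromSpecStalk (genericPoint X)) w ∈ Set.range (X.fromSpecStalk (genericPoint X)) :=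
    ⟨w, rfl⟩
  rw [Scheme.range_fromSpecStalk] at h1
  exact (h1.antisymm (genericPoint_specializes _)).eq

theorem toNormalization_unique
    (s : Spec (X.presheaf.stalk (genericPoint X)) ⟶ (X.fromSpecStalk (genericPoint X)).normalization)
    (hs : s ≫ (X.fromSpecStalk (genericPoint X)).fromNormalization =
      X.fromSpecStalk (genericPoint X)) :
    s = (X.fromSpecStalk (genericPoint X)).toNormalization :=
  hom_unique X (X.fromSpecStalk (genericPoint X))
    (isNormalScheme_Spec_of_isField _ (Field.toIsField X.functionField)) (hgen_fromSpecStalk X) s _ hs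
    (Scheme.Hom.toNormalization_fromNormalization _)

end One

section Main

variable {X Y : Scheme.{u}} (f : X ⟶ Y) [Smooth f] [IsIntegral X] [IsIntegral Y]
  [QuasiCompact (X.fromSpecStalk (genericPoint X))]
  [QuasiSeparated (X.fromSpecStalk (genericPoint X))]
  [QuasiCompact (Y.fromSpecStalk (genericPoint Y))]
  [QuasiSeparated (Y.fromSpecStalk (genericPoint Y))]

theorem exists_iso :
    ∃ e : Curv2.normalization X ≅ pullback f (Curv2.normalizationι Y),
      e.hom ≫ pullback.fst f (Curv2.normalizationι Y) = Curv2.normalizationι X := by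
  change ∃ e : (X.fromSpecStalk (genericPoint X)).normalization ≅
      pullback f (Y.fromSpecStalk (genericPoint Y)).fromNormalization,
    e.hom ≫ pullback.fst f (Y.fromSpecStalk (genericPoint Y)).fromNormalization =
      (X.fromSpecStalk (genericPoint X)).fromNormalization
  set jX := X.fromSpecStalk (genericPoint X) with hjX
  set jY := Y.fromSpecStalk (genericPoint Y) with hjY
  have hfη : f (genericPoint X) = genericPoint Y :=
    Groth.Agent.Lib.Helper4.FibDim7.map_genericPoint_of_flat f
  have hsp : f (genericPoint X) ⤳ genericPoint Y := by rw [hfη]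
  let a : Spec (X.presheaf.stalk (genericPoint X)) ⟶ Spec (Y.presheaf.stalk (genericPoint Y)) :=
    Spec.map (f.stalkMap (genericPoint X)) ≫ Spec.map (Y.presheaf.stalkSpecializes hsp)
  have ha : a ≫ jY = jX ≫ f := by
    simp only [a, Category.assoc]
    rw [Scheme.SpecMap_stalkSpecializes_fromSpecStalk, Scheme.SpecMap_stalkMap_fromSpecStalk]
  let q := pullback.snd jY f
  let t : Spec (X.presheaf.stalk (genericPoint X)) ⟶ pullback jY f := pullback.lift a jX ha
  have htq : t ≫ q = jX := pullback.lift_snd _ _ _
  have hGN : Pi1.IsNormalScheme (pullback jY f) :=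
    Groth.Agent.Lib.Helper6.Normal.isNormalScheme_of_smooth (pullback.fst jY f)
      (isNormalScheme_Spec_of_isField _ (Field.toIsField Y.functionField))
  set z := t (IsLocalRing.closedPoint (X.presheaf.stalk (genericPoint X))) with hz
  have hqz : q z = genericPoint X := by
    rw [hz, ← Scheme.Hom.comp_apply, htq]
    exact Scheme.fromSpecStalk_closedPoint
  have hzw : ∀ w : (pullback jY f : Scheme.{u}), z ⤳ w := by
    intro w
    rw [← q.isEmbedding.isInducing.specializes_iff, hqz]
    exact genericPoint_specializes _
  have hGgen : ∀ w : (pullback jY f : Scheme.{u}), ∃ z' : (pullback jY f : Scheme.{u}),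
      z' ⤳ w ∧ q z' = genericPoint X := fun w => ⟨z, hzw w, hqz⟩
  obtain ⟨hG, hhG⟩ : ∃ hG : pullback jY f ⟶ jX.normalization, hG ≫ jX.fromNormalization = q :=
    hom_exists X q hGN hGgen
  let β : q.normalization ⟶ jX.normalization :=
    q.normalizationDesc hG jX.fromNormalization hhG.symm
  have hβ1 : q.toNormalization ≫ β = hG := q.toNormalization_normalizationDesc _ _ _
  have hβ2 : β ≫ jX.fromNormalization = q.fromNormalization := q.normalizationDesc_comp _ _ _
  have Hα : jX = (t ≫ q.toNormalization) ≫ q.fromNormalization := by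
    rw [Category.assoc, Scheme.Hom.toNormalization_fromNormalization, htq]
  let α : jX.normalization ⟶ q.normalization :=
    jX.normalizationDesc (t ≫ q.toNormalization) q.fromNormalization Hα
  have hα1 : jX.toNormalization ≫ α = t ≫ q.toNormalization :=
    jX.toNormalization_normalizationDesc _ _ _
  have hα2 : α ≫ q.fromNormalization = jX.fromNormalization := jX.normalizationDesc_comp _ _ _
  have hthG : t ≫ hG = jX.toNormalization :=
    toNormalization_unique X _ (by rw [Category.assoc, hhG, htq])
  have hαβ : α ≫ β = 𝟙 _ := by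
    refine Scheme.Hom.normalization.hom_ext jX (α ≫ β) (𝟙 _) jX.fromNormalization ?_ ?_ ?_
    · rw [← Category.assoc, hα1, Category.assoc, hβ1, hthG, Category.comp_id]
    · rw [Category.assoc, hβ2, hα2]
    · rw [Category.id_comp]
  haveI : ∀ x, _root_.IsReduced ((pullback jY f : Scheme.{u}).presheaf.stalk x) := fun x => by
    haveI := (hGN x).1
    infer_instance
  haveI : IsReduced (pullback jY f : Scheme.{u}) := isReduced_of_isReduced_stalk _
  haveI : IsDominant t := by
    refine ⟨Dense.mono (s₁ := {z}) (Set.singleton_subset_iff.mpr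
      ⟨IsLocalRing.closedPoint (X.presheaf.stalk (genericPoint X)), rfl⟩) ?_⟩
    intro w
    exact (hzw w).mem_closure
  have hβα : β ≫ α = 𝟙 _ := by
    refine Scheme.Hom.normalization.hom_ext q (β ≫ α) (𝟙 _) q.fromNormalization ?_ ?_ ?_
    · rw [← Category.assoc, hβ1, Category.comp_id]
      refine ext_of_isDominant_of_isSeparated q.fromNormalization ?_ t ?_
      · rw [Category.assoc, hα2, hhG, Scheme.Hom.toNormalization_fromNormalization]
      · rw [← Category.assoc, hthG, hα1]
    · rw [Category.assoc, hα2, hβ2]
    · rw [Category.id_comp]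
  let Φ := jY.normalizationPullback f
  haveI : IsIso Φ := inferInstance
  let e : jX.normalization ≅ pullback f jY.fromNormalization :=
    (Iso.mk α β hαβ hβα) ≪≫ asIso Φ ≪≫ pullbackSymmetry _ _
  refine ⟨e, ?_⟩
  have he : e.hom = α ≫ Φ ≫ (pullbackSymmetry jY.fromNormalization f).hom := rfl
  have hΦ : Φ ≫ pullback.snd jY.fromNormalization f = q.fromNormalization :=
    Scheme.Hom.normalizationPullback_snd jY f
  rw [he, Category.assoc, Category.assoc, pullbackSymmetry_hom_comp_fst, hΦ, hα2]

theorem iso_unique (e₁ e₂ : (X.fromSpecStalk (genericPoint X)).normalization ≅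
      pullback f (Y.fromSpecStalk (genericPoint Y)).fromNormalization)
    (h₁ : e₁.hom ≫ pullback.fst f (Y.fromSpecStalk (genericPoint Y)).fromNormalization =
      (X.fromSpecStalk (genericPoint X)).fromNormalization)
    (h₂ : e₂.hom ≫ pullback.fst f (Y.fromSpecStalk (genericPoint Y)).fromNormalization =
      (X.fromSpecStalk (genericPoint X)).fromNormalization) :
    e₁ = e₂ := by
  apply Iso.ext
  have hinv : e₁.inv ≫ (X.fromSpecStalk (genericPoint X)).fromNormalization =
      pullback.fst f (Y.fromSpecStalk (genericPoint Y)).fromNormalization := by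
    rw [← h₁, Iso.inv_hom_id_assoc]
  have key : (X.fromSpecStalk (genericPoint X)).toNormalization ≫ e₂.hom ≫ e₁.inv =
      (X.fromSpecStalk (genericPoint X)).toNormalization := by
    refine toNormalization_unique X _ ?_
    rw [Category.assoc, Category.assoc, hinv, h₂]
    exact Scheme.Hom.toNormalization_fromNormalization _
  refine Scheme.Hom.normalization.hom_ext (X.fromSpecStalk (genericPoint X)) e₁.hom e₂.hom
    (pullback.fst f (Y.fromSpecStalk (genericPoint Y)).fromNormalization) ?_ h₁ h₂
  have := congrArg (· ≫ e₁.hom) key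
  simp only [Category.assoc, Iso.inv_hom_id, Category.comp_id] at this
  exact this.symm

theorem main :
    ∃! e : Curv2.normalization X ≅ pullback f (Curv2.normalizationι Y),
      e.hom ≫ pullback.fst f (Curv2.normalizationι Y) = Curv2.normalizationι X := by
  obtain ⟨e, he⟩ := exists_iso f
  exact ⟨e, he, fun e' he' => iso_unique f e' e he' he⟩

end Main

end Groth.Agent.Helper2.NormSmooth
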