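import Mathlib
import Groth.Agent.Lib.Helper2.Norm.SmoothBC
import Groth.Agent.Lib.Helper4.Japanese2
import Groth.Agent.Lib.Helper7.LimRed2

set_option autoImplicit false
set_option backward.isDefEq.respectTransparency.types false
set_option synthInstance.maxHeartbeats 400000
set_option maxHeartbeats 4000000
set_option linter.style.haveILetI false
set_option linter.unusedSectionVars false
set_option linter.unusedVariables false

/-! # A smooth normalization is compatible with field extensions -/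

universe u

open CategoryTheory CategoryTheory.Limits AlgebraicGeometry TopologicalSpace Opposite

namespace Groth.Agent.Helper2.NormField

open Groth.Agent.Lib.Helper4.NormalizationField2

/-- The nilradical is contained in the kernel of any morphism from a reduced scheme. -/
theorem nilradical_le_ker {P Z : Scheme.{u}} [IsReduced P] (g : P ⟶ Z) : Z.nilradical ≤ g.ker := by
  change _ ≤ Scheme.IdealSheafData.ofIdeals _
  rw [Scheme.IdealSheafData.le_ofIdeals_iff]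
  intro U x hx
  rw [Groth.Agent.Helper7.LimRed2.nilradical_ideal] at hx
  rw [RingHom.mem_ker]
  have h1 : IsNilpotent ((g.app U).hom x) := (mem_nilradical.mp hx).map _
  exact h1.eq_zero

theorem isReduced_of_isNormalScheme {P : Scheme.{u}} (hP : Pi1.IsNormalScheme P) : IsReduced P := by
  haveI : ∀ y : P, _root_.IsReduced (P.presheaf.stalk y) := fun y => by
    haveI := (hP y).1
    infer_instance
  exact isReduced_of_isReduced_stalk P

/-- base change of an isomorphism over an open -/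
theorem isIso_restrict_of_isPullback {Y X X' P : Scheme.{u}} (ν : Y ⟶ X) (q : X' ⟶ X) (b : P ⟶ X')
    (pY : P ⟶ Y) (hpb : IsPullback b pY q ν) (V : X.Opens) [IsIso (ν ∣_ V)] :
    IsIso (b ∣_ (q ⁻¹ᵁ V)) := by
  have hUY : b ⁻¹ᵁ (q ⁻¹ᵁ V) = b ⁻¹ᵁ (q ⁻¹ᵁ V) ⊓ pY ⁻¹ᵁ (ν ⁻¹ᵁ V) := by
    have : b ⁻¹ᵁ (q ⁻¹ᵁ V) = pY ⁻¹ᵁ (ν ⁻¹ᵁ V) := by
      rw [← Scheme.Hom.comp_preimage, ← Scheme.Hom.comp_preimage, hpb.w]
    rw [← this, inf_idem]
  have h1 := Scheme.Hom.isPullback_resLE hpb (US := V) (UT := ν ⁻¹ᵁ V) (UX := q ⁻¹ᵁ V) le_rfl le_rfl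
    hUY
  simp only [Scheme.Hom.resLE_eq_morphismRestrict] at h1
  exact h1.isIso_fst_of_isIso

/-- an integral morphism from a normal scheme which is an isomorphism over a dense open with dense
preimage is the normalization (helper4's S5950, `mpr` direction without the extra hypothesis) -/
theorem exists_iso_normalization_of_isIso_restrict (X : Scheme.{u}) [IsIntegral X]
    [QuasiCompact (X.fromSpecStalk (genericPoint X))]
    [QuasiSeparated (X.fromSpecStalk (genericPoint X))]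
    {Y : Scheme.{u}} (f : Y ⟶ X) (hn : Pi1.IsNormalScheme Y) [IsIntegralHom f]
    (U : X.Opens) (hU : Dense (U : Set ↥X)) (hU' : Dense ((f ⁻¹ᵁ U : Y.Opens) : Set ↥Y))
    (hiso : IsIso (f ∣_ U)) :
    ∃ e : Y ≅ Curv2.normalization X, e.hom ≫ Curv2.normalizationι X = f := by
  haveI := irreducibleSpace_of_isIso_restrict_dense f U hU hU' hiso
  haveI := isIntegral_of_isNormalScheme_of_irreducibleSpace hn
  have hηU' : genericPoint Y ∈ f ⁻¹ᵁ U :=
    ((genericPoint_spec Y).mem_open_set_iff (f ⁻¹ᵁ U).isOpen).mpr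
      (by simpa using hU'.nonempty)
  haveI : Nonempty (f ⁻¹ᵁ U : Y.Opens) := ⟨⟨_, hηU'⟩⟩
  haveI : Nonempty U := hU.nonempty.to_subtype
  have hg1 : (f ⁻¹ᵁ U).ι (genericPoint (f ⁻¹ᵁ U).toScheme) = genericPoint Y :=
    genericPoint_eq_of_isOpenImmersion (f ⁻¹ᵁ U).ι
  have hg2 : U.ι (genericPoint U.toScheme) = genericPoint X :=
    genericPoint_eq_of_isOpenImmersion U.ι
  have hg3 : (f ∣_ U) (genericPoint (f ⁻¹ᵁ U).toScheme) = genericPoint U.toScheme :=
    genericPoint_eq_of_isOpenImmersion (f ∣_ U)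
  have hgen : f (genericPoint Y) = genericPoint X := by
    rw [← hg1, ← Scheme.Hom.comp_apply, ← morphismRestrict_ι, Scheme.Hom.comp_apply, hg3, hg2]
  have hbir : IsIso (f.stalkMap (genericPoint Y)) := by
    have h1 : IsIso ((f ∣_ U).stalkMap (genericPoint (f ⁻¹ᵁ U).toScheme)) := inferInstance
    have h2 : IsIso (f.stalkMap (genericPoint (f ⁻¹ᵁ U).toScheme).1) :=
      ((MorphismProperty.isomorphisms CommRingCat).arrow_mk_iso_iff
        (morphismRestrictStalkMap f U _)).mp h1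
    exact isIso_stalkMap_congr_pt f _ _ hg1 h2
  exact exists_iso_normalization_of_birational X f (fun y => (hn y).2) hgen hbir

theorem isIso_restrict_of_comp {P W X' : Scheme.{u}} (b' : P ⟶ W) (ι : W ⟶ X')
    [IsClosedImmersion ι] (U : X'.Opens) (h : IsIso ((b' ≫ ι) ∣_ U)) :
    IsIso (b' ∣_ (ι ⁻¹ᵁ U)) := by
  have h2 : IsIso (b' ∣_ (ι ⁻¹ᵁ U) ≫ ι ∣_ U) := by
    rw [← morphismRestrict_comp]; exact h
  haveI : IsClosedImmersion (ι ∣_ U) :=
    IsZariskiLocalAtTarget.restrict (P := @IsClosedImmersion) inferInstance _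
  haveI : IsSplitEpi (ι ∣_ U) :=
    ⟨⟨⟨@inv _ _ _ _ (b' ∣_ (ι ⁻¹ᵁ U) ≫ ι ∣_ U) h2 ≫ b' ∣_ (ι ⁻¹ᵁ U), by
      rw [Category.assoc]; exact @IsIso.inv_hom_id _ _ _ _ _ h2⟩⟩⟩
  haveI : IsIso (ι ∣_ U) := isIso_of_mono_of_isSplitEpi _
  exact @IsIso.of_isIso_comp_right _ _ _ _ _ (b' ∣_ (ι ⁻¹ᵁ U)) (ι ∣_ U) _ h2

/-- The core statement: base change of a birational integral `ν : Y ⟶ X` along a surjective
`q : X' ⟶ X` with flat projection `P ⟶ Y`, `P` normal and `W = (X')_red` integral, is the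
normalization of `W`. -/
theorem core' {Y X X' P W : Scheme.{u}} [IrreducibleSpace Y] (ν : Y ⟶ X) (q : X' ⟶ X)
    (b : P ⟶ X') (pY : P ⟶ Y) (hpb : IsPullback b pY q ν) [IsIntegralHom ν]
    (V : X.Opens) (hV : (V : Set X).Nonempty) (hiso : IsIso (ν ∣_ V))
    [Flat pY] [Surjective q] (hP : Pi1.IsNormalScheme P)
    (ι : W ⟶ X') [IsClosedImmersion ι] [Surjective ι] (b' : P ⟶ W) (hb' : b' ≫ ι = b)
    [IsIntegral W]
    [QuasiCompact (W.fromSpecStalk (genericPoint W))]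
    [QuasiSeparated (W.fromSpecStalk (genericPoint W))] :
    ∃ e : P ≅ Curv2.normalization W,
      e.hom ≫ Curv2.normalizationι W ≫ ι = b := by
  -- integrality
  haveI hbint : IsIntegralHom b := MorphismProperty.of_isPullback hpb.flip ‹IsIntegralHom ν›
  haveI : IsIntegralHom (b' ≫ ι) := by rw [hb']; exact hbint
  haveI : IsIntegralHom b' := IsIntegralHom.of_comp b' ι
  -- the opens
  have hisoB : IsIso (b ∣_ (q ⁻¹ᵁ V)) := isIso_restrict_of_isPullback ν q b pY hpb V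
  have hisoB' : IsIso (b' ∣_ (ι ⁻¹ᵁ (q ⁻¹ᵁ V))) := by
    apply isIso_restrict_of_comp
    rw [hb']; exact hisoB
  -- density
  have hne : ((ι ⁻¹ᵁ (q ⁻¹ᵁ V) : W.Opens) : Set ↥W).Nonempty := by
    obtain ⟨v, hv⟩ := hV
    obtain ⟨x', rfl⟩ := q.surjective v
    obtain ⟨w, rfl⟩ := ι.surjective x'
    exact ⟨w, hv⟩
  have hdense : Dense ((ι ⁻¹ᵁ (q ⁻¹ᵁ V) : W.Opens) : Set ↥W) :=
    (ι ⁻¹ᵁ (q ⁻¹ᵁ V)).isOpen.dense hne
  have hpre : (b' ⁻¹ᵁ (ι ⁻¹ᵁ (q ⁻¹ᵁ V)) : P.Opens) = pY ⁻¹ᵁ (ν ⁻¹ᵁ V) := by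
    rw [← Scheme.Hom.comp_preimage, hb', ← Scheme.Hom.comp_preimage, ← Scheme.Hom.comp_preimage,
      hpb.w]
  have hνV : genericPoint Y ∈ ν ⁻¹ᵁ V := by
    refine ((genericPoint_spec Y).mem_open_set_iff (ν ⁻¹ᵁ V).isOpen).mpr ?_
    obtain ⟨v, hv⟩ := hV
    let y : (ν ⁻¹ᵁ V).toScheme := (inv (ν ∣_ V)) ⟨v, hv⟩
    exact ⟨y.1, Set.mem_inter (Set.mem_univ _) y.2⟩
  have hdense' : Dense ((b' ⁻¹ᵁ (ι ⁻¹ᵁ (q ⁻¹ᵁ V)) : P.Opens) : Set P) := by
    rw [hpre]
    intro z
    have hgz : genericPoint Y ⤳ pY z := genericPoint_specializes _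
    obtain ⟨z', hz', hz'η⟩ := (Flat.generalizingMap pY) hgz
    have hmem : z' ∈ ((pY ⁻¹ᵁ (ν ⁻¹ᵁ V) : P.Opens) : Set P) := by
      show pY z' ∈ ν ⁻¹ᵁ V
      rw [hz'η]; exact hνV
    exact closure_mono (Set.singleton_subset_iff.mpr hmem) (specializes_iff_mem_closure.mp hz')
  obtain ⟨e, he⟩ := exists_iso_normalization_of_isIso_restrict W b' hP
    (ι ⁻¹ᵁ (q ⁻¹ᵁ V)) hdense hdense' hisoB'
  refine ⟨e, ?_⟩
  rw [← Category.assoc, he]
  exact hb'

theorem core {Y X X' P : Scheme.{u}} [IrreducibleSpace Y] (ν : Y ⟶ X) (q : X' ⟶ X)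
    (b : P ⟶ X') (pY : P ⟶ Y) (hpb : IsPullback b pY q ν) [IsIntegralHom ν]
    (V : X.Opens) (hV : (V : Set X).Nonempty) (hiso : IsIso (ν ∣_ V))
    [Flat pY] [Surjective q] (hP : Pi1.IsNormalScheme P)
    [IsIntegral X'.nilradical.subscheme]
    [QuasiCompact ((X'.nilradical.subscheme).fromSpecStalk (genericPoint X'.nilradical.subscheme))]
    [QuasiSeparated ((X'.nilradical.subscheme).fromSpecStalk
      (genericPoint X'.nilradical.subscheme))] :
    ∃ e : P ≅ Curv2.normalization X'.nilradical.subscheme,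
      e.hom ≫ Curv2.normalizationι X'.nilradical.subscheme ≫ X'.nilradical.subschemeι = b := by
  haveI : IsReduced P := isReduced_of_isNormalScheme hP
  have hker : X'.nilradical.subschemeι.ker ≤ b.ker := by
    rw [Scheme.IdealSheafData.ker_subschemeι]
    exact nilradical_le_ker b
  exact core' ν q b pY hpb V hV hiso hP X'.nilradical.subschemeι
    (IsClosedImmersion.lift X'.nilradical.subschemeι b hker)
    (IsClosedImmersion.lift_fac X'.nilradical.subschemeι b hker)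

end Groth.Agent.Helper2.NormField
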