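import Mathlib
import Groth.Prelude
import Groth.Agent.Lib.Helper8.DeltaInv2

/-!
# The δ-invariant of a localization of a domain with finite normalization (helper2)

For a domain `A` with finite normalization `A'`, a prime `p` and `R = A_p`:
`δ(R) = length_R (R ⊗_A (A'/A))`.
-/

set_option autoImplicit false
set_option backward.isDefEq.respectTransparency.types false
set_option synthInstance.maxHeartbeats 400000
set_option maxHeartbeats 4000000
set_option linter.style.haveILetI false
set_option linter.unusedSectionVars false

universe u

namespace Groth.Agent.Helper2.NormDelta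

open TensorProduct

section Alg

variable (A : Type u) [CommRing A] [IsDomain A]

/-- the cokernel of `A → A'` as an `A`-module -/
abbrev Q : Type u := integralClosure A (FractionRing A) ⧸
  LinearMap.range (Algebra.linearMap A (integralClosure A (FractionRing A)))

theorem normal_tensor_localization (p : Ideal A) [p.IsPrime]
    (R : Type u) [CommRing R] [Algebra A R] [IsLocalization.AtPrime R p]
    (N : Ideal (R ⊗[A] integralClosure A (FractionRing A))) [N.IsMaximal] :
    IsDomain (Localization.AtPrime N) ∧ IsIntegrallyClosed (Localization.AtPrime N) := by
  letI : Algebra (integralClosure A (FractionRing A)) (R ⊗[A] integralClosure A (FractionRing A)) :=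
    Algebra.TensorProduct.rightAlgebra
  haveI hloc : IsLocalization
      (Algebra.algebraMapSubmonoid (integralClosure A (FractionRing A)) p.primeCompl)
      (R ⊗[A] integralClosure A (FractionRing A)) :=
    IsLocalization.tensorRight (R := A) (S := integralClosure A (FractionRing A)) (A := R)
      p.primeCompl
  have hM : Algebra.algebraMapSubmonoid (integralClosure A (FractionRing A)) p.primeCompl ≤
      nonZeroDivisors (integralClosure A (FractionRing A)) := by
    rintro _ ⟨a, ha, rfl⟩
    apply mem_nonZeroDivisors_of_ne_zero
    intro h0
    have h1 : algebraMap A (FractionRing A) a = 0 := by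
      have := congrArg (Subtype.val) h0
      exact this
    have h2 : a = 0 := (IsFractionRing.injective A (FractionRing A)) (by rw [h1, map_zero])
    exact ha (h2 ▸ p.zero_mem)
  haveI : IsIntegrallyClosed (integralClosure A (FractionRing A)) :=
    integralClosure.isIntegrallyClosedOfFiniteExtension (FractionRing A)
  haveI hdom : IsDomain (R ⊗[A] integralClosure A (FractionRing A)) :=
    IsLocalization.isDomain_of_le_nonZeroDivisors (R ⊗[A] integralClosure A (FractionRing A)) hM
  haveI hic : IsIntegrallyClosed (R ⊗[A] integralClosure A (FractionRing A)) :=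
    isIntegrallyClosed_of_isLocalization (R ⊗[A] integralClosure A (FractionRing A)) _ hM
  have hN : N.primeCompl ≤ nonZeroDivisors (R ⊗[A] integralClosure A (FractionRing A)) :=
    Ideal.primeCompl_le_nonZeroDivisors N
  refine ⟨IsLocalization.isDomain_of_le_nonZeroDivisors (Localization.AtPrime N) hN, ?_⟩
  exact isIntegrallyClosed_of_isLocalization (Localization.AtPrime N) N.primeCompl hN

/-- **δ-invariant of a localization** -/
theorem deltaInv_localization (p : Ideal A) [p.IsPrime]
    (R : Type u) [CommRing R] [Algebra A R] [IsLocalization.AtPrime R p]
    [Module.Finite A (integralClosure A (FractionRing A))] :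
    Curv2.deltaInv R = Module.length R (R ⊗[A] Q A) := by
  haveI : Module.Flat A R := IsLocalization.flat R p.primeCompl
  unfold Curv2.deltaInv
  rw [Groth.Agent.Helper8.DeltaInv.length_quotient_eq A R
      (fun N _ => normal_tensor_localization A p R N),
    Groth.Agent.Helper8.DeltaInv.length_tensor_quotient_eq A R]

/-- transport of the cokernel along an isomorphism with the normalization -/
noncomputable def quotEquiv (B : Type u) [CommRing B] [Algebra A B]
    (e : B ≃ₐ[A] integralClosure A (FractionRing A)) :
    (B ⧸ LinearMap.range (Algebra.linearMap A B)) ≃ₗ[A] Q A :=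
  Submodule.Quotient.equiv _ _ e.toLinearEquiv (by
    rw [← LinearMap.range_comp]
    congr 1
    ext
    simp)

/-- the δ-invariant computed from any model `B` of the normalization and any model `M` of the
localized cokernel -/
theorem deltaInv_eq_length (p : Ideal A) [p.IsPrime]
    (R : Type u) [CommRing R] [Algebra A R] [IsLocalization.AtPrime R p]
    [Module.Finite A (integralClosure A (FractionRing A))]
    (B : Type u) [CommRing B] [Algebra A B]
    (e : B ≃ₐ[A] integralClosure A (FractionRing A))
    (C : Type u) [AddCommGroup C] [Module A C]
    (c : (B ⧸ LinearMap.range (Algebra.linearMap A B)) ≃ₗ[A] C)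
    (M : Type u) [AddCommGroup M] [Module A M] [Module R M] [IsScalarTower A R M]
    (g : C →ₗ[A] M) [IsLocalizedModule p.primeCompl g] :
    Module.length R M = Curv2.deltaInv R := by
  rw [deltaInv_localization A p R]
  have hbc : IsBaseChange R g := IsLocalizedModule.isBaseChange p.primeCompl R g
  have e1 : R ⊗[A] C ≃ₗ[R] M := hbc.equiv
  have e2 : R ⊗[A] C ≃ₗ[R] R ⊗[A] Q A :=
    TensorProduct.AlgebraTensorModule.congr (LinearEquiv.refl R R) (c.symm.trans (quotEquiv A B e))
  rw [← e1.length_eq, e2.length_eq]

/-- variant of `deltaInv_eq_length` with the cokernel given by a surjection -/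
theorem deltaInv_eq_length' (p : Ideal A) [p.IsPrime]
    (R : Type u) [CommRing R] [Algebra A R] [IsLocalization.AtPrime R p]
    [Module.Finite A (integralClosure A (FractionRing A))]
    (B : Type u) [CommRing B] [Algebra A B]
    (e : B ≃ₐ[A] integralClosure A (FractionRing A))
    (C : Type u) [AddCommGroup C] [Module A C]
    (π : B →ₗ[A] C) (hπ : Function.Surjective π)
    (hker : LinearMap.ker π = LinearMap.range (Algebra.linearMap A B))
    (M : Type u) [AddCommGroup M] [Module A M] [Module R M] [IsScalarTower A R M]
    (g : C →ₗ[A] M) [IsLocalizedModule p.primeCompl g] :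
    Module.length R M = Curv2.deltaInv R :=
  deltaInv_eq_length A p R B e C
    ((Submodule.quotEquivOfEq _ _ hker.symm).trans (π.quotKerEquivOfSurjective hπ)) M g

end Alg

end Groth.Agent.Helper2.NormDelta
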