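import Mathlib
import Groth.Prelude
import Groth.Agent.Lib.Helper2.Norm.BCAlg
import Groth.Agent.Lib.Helper2.Norm.DeltaAlg

/-!
# The δ-invariant under a field base change: from a global chart to the local ring (helper2)
-/

set_option autoImplicit false
set_option backward.isDefEq.respectTransparency.types false
set_option synthInstance.maxHeartbeats 400000
set_option maxHeartbeats 4000000
set_option linter.style.haveILetI false
set_option linter.unusedSectionVars false
set_option linter.unusedVariables false

universe u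

namespace Groth.Agent.Helper2.DeltaBC

open TensorProduct IsLocalRing

section Global

variable (R : Type u) [CommRing R] (p : Ideal R) [p.IsPrime]
  (A : Type u) [CommRing A] [Algebra R A] [IsLocalization.AtPrime A p]
  (S : Type u) [CommRing S] [Algebra R S]

/-- common denominators in `A ⊗[R] S` for a localization `A` of `R` -/
theorem exists_denominator (z : A ⊗[R] S) :
    ∃ (w : S) (s : R), s ∉ p ∧
      z * ((1 : A) ⊗ₜ[R] (algebraMap R S s)) = (1 : A) ⊗ₜ[R] w := by
  induction z using TensorProduct.induction_on with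
  | zero => exact ⟨0, 1, fun h => (Ideal.ne_top_iff_one p).mp (Ideal.IsPrime.ne_top ‹_›) h, by simp⟩
  | tmul a w₀ =>
    obtain ⟨⟨r, s⟩, hrs⟩ := IsLocalization.surj p.primeCompl a
    refine ⟨r • w₀, s.1, s.2, ?_⟩
    simp only at hrs
    rw [Algebra.TensorProduct.tmul_mul_tmul, mul_one]
    have h1 : w₀ * (algebraMap R S) ↑s = (s : R) • w₀ := by rw [mul_comm, Algebra.smul_def]
    have h2 : (s : R) • a = (r : R) • (1 : A) := by
      rw [Algebra.smul_def, Algebra.smul_def, mul_one, mul_comm, hrs]
    rw [h1, ← TensorProduct.smul_tmul, h2, TensorProduct.smul_tmul]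
  | add z₁ z₂ h₁ h₂ =>
    obtain ⟨w₁, s₁, hs₁, e₁⟩ := h₁
    obtain ⟨w₂, s₂, hs₂, e₂⟩ := h₂
    refine ⟨algebraMap R S s₂ * w₁ + algebraMap R S s₁ * w₂, s₁ * s₂,
      fun h => (Ideal.IsPrime.mem_or_mem ‹_› h).elim hs₁ hs₂, ?_⟩
    have h1 : ((1 : A) ⊗ₜ[R] (algebraMap R S (s₁ * s₂))) =
        ((1 : A) ⊗ₜ[R] (algebraMap R S s₁)) * ((1 : A) ⊗ₜ[R] (algebraMap R S s₂)) := by
      rw [Algebra.TensorProduct.tmul_mul_tmul, mul_one, map_mul]
    have h2 : (1 : A) ⊗ₜ[R] (algebraMap R S s₂ * w₁ + algebraMap R S s₁ * w₂) =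
        ((1 : A) ⊗ₜ[R] w₁) * ((1 : A) ⊗ₜ[R] (algebraMap R S s₂)) +
        ((1 : A) ⊗ₜ[R] w₂) * ((1 : A) ⊗ₜ[R] (algebraMap R S s₁)) := by
      rw [Algebra.TensorProduct.tmul_mul_tmul, Algebra.TensorProduct.tmul_mul_tmul, mul_one,
        TensorProduct.tmul_add, mul_comm w₁, mul_comm w₂]
    rw [h1, h2, ← e₁, ← e₂]
    ring

end Global

section Main

variable (k : Type u) [Field k] (R : Type u) [CommRing R] [IsDomain R] [Algebra k R]
  (R' : Type u) [CommRing R'] [Algebra R R'] [Algebra k R'] [IsScalarTower k R R']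
  [Module.Finite R (integralClosure R (FractionRing R))]
  (p : Ideal R) [p.IsPrime]
  (A : Type u) [CommRing A] [Algebra R A] [IsLocalization.AtPrime A p] [Algebra k A]
  [IsScalarTower k R A]
  (K : Type u) [Field K] [Algebra k K]

/-- finiteness of the normalization passes to localizations at primes -/
theorem finite_integralClosure_localization (R : Type u) [CommRing R] [IsDomain R]
    [Module.Finite R (integralClosure R (FractionRing R))] (p : Ideal R) [p.IsPrime]
    (A : Type u) [CommRing A] [Algebra R A] [IsLocalization.AtPrime A p] :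
    Module.Finite A (integralClosure A (FractionRing A)) := by
  haveI : Module.Flat R A := IsLocalization.flat A p.primeCompl
  let τ : A ⊗[R] integralClosure R (FractionRing R) ≃ₐ[A] integralClosure A (FractionRing A) :=
    Groth.Agent.Helper8.DeltaInv.tensorEquiv R A (fun N _ =>
      Groth.Agent.Helper2.NormDelta.normal_tensor_localization R p A N)
  exact Module.Finite.equiv τ.toLinearEquiv

theorem isReduced_quotient_tensor_of_global
    (e : R' ≃ₐ[R] integralClosure R (FractionRing R))
    (H : ∀ (P : Ideal R') [P.IsPrime], P.comap (algebraMap R R') = p →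
      ∃ (L : Type u) (_ : Field L) (_ : Algebra k L) (φ : R' →ₐ[k] L),
        RingHom.ker φ.toRingHom = P ∧ IsReduced (L ⊗[k] K))
    (n' : Ideal (integralClosure A (FractionRing A))) [hn' : n'.IsMaximal] :
    IsReduced ((integralClosure A (FractionRing A) ⧸ n') ⊗[k] K) := by
  classical
  haveI : Module.Flat R A := IsLocalization.flat A p.primeCompl
  haveI : IsLocalRing A := IsLocalization.AtPrime.isLocalRing A p
  let S := integralClosure R (FractionRing R)
  let τ : A ⊗[R] S ≃ₐ[A] integralClosure A (FractionRing A) :=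
    Groth.Agent.Helper8.DeltaInv.tensorEquiv R A (fun N _ =>
      Groth.Agent.Helper2.NormDelta.normal_tensor_localization R p A N)
  let ι : S →+* A ⊗[R] S := (Algebra.TensorProduct.includeRight : S →ₐ[R] A ⊗[R] S).toRingHom
  let N : Ideal (A ⊗[R] S) := n'.comap τ.toRingEquiv.toRingHom
  haveI hNmax : N.IsMaximal :=
    Ideal.comap_isMaximal_of_surjective τ.toRingEquiv.toRingHom τ.surjective
  let P₀ : Ideal S := N.comap ι
  let P : Ideal R' := P₀.comap e.toRingEquiv.toRingHom
  haveI hP₀ : P₀.IsPrime := Ideal.IsPrime.comap ι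
  haveI hP : P.IsPrime := Ideal.IsPrime.comap e.toRingEquiv.toRingHom
  haveI : Module.Finite A (A ⊗[R] S) := inferInstance
  haveI : (N.comap (algebraMap A (A ⊗[R] S))).IsMaximal :=
    Ideal.isMaximal_comap_of_isIntegral_of_isMaximal N
  have hNA : N.comap (algebraMap A (A ⊗[R] S)) = maximalIdeal A :=
    IsLocalRing.eq_maximalIdeal inferInstance
  have hιR : ∀ r : R, ι (algebraMap R S r) = algebraMap A (A ⊗[R] S) (algebraMap R A r) := by
    intro r
    show (1 : A) ⊗ₜ[R] (algebraMap R S r) = algebraMap A (A ⊗[R] S) (algebraMap R A r)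
    rw [Algebra.TensorProduct.algebraMap_apply, Algebra.algebraMap_self, RingHom.id_apply,
      Algebra.algebraMap_eq_smul_one, Algebra.algebraMap_eq_smul_one (A := A),
      TensorProduct.smul_tmul]
  have hPp : P.comap (algebraMap R R') = p := by
    ext r
    rw [Ideal.mem_comap]
    show ι (e (algebraMap R R' r)) ∈ N ↔ r ∈ p
    rw [e.commutes, hιR, ← Ideal.mem_comap, hNA]
    exact IsLocalization.AtPrime.to_map_mem_maximal_iff A p r
  obtain ⟨L, instL, algL, φ, hker, hLred⟩ := H P hPp
  letI algRL : Algebra R L := (φ.toRingHom.comp (algebraMap R R')).toAlgebra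
  let φR : R' →ₐ[R] L := { φ.toRingHom with commutes' := fun r => rfl }
  let gI : S →ₐ[R] L := φR.comp e.symm.toAlgHom
  have hunit : ∀ y : p.primeCompl, IsUnit (Algebra.ofId R L (y : R)) := by
    intro y
    rw [isUnit_iff_ne_zero]
    intro h0
    have h1 : algebraMap R R' (y : R) ∈ RingHom.ker φ.toRingHom := h0
    rw [hker] at h1
    have h2 : (y : R) ∈ P.comap (algebraMap R R') := h1
    rw [hPp] at h2
    exact y.2 h2
  let gA : A →ₐ[R] L :=
    IsLocalization.liftAlgHom (M := p.primeCompl) (f := Algebra.ofId R L) hunit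
  let g : A ⊗[R] S →ₐ[R] L := Algebra.TensorProduct.productMap gA gI
  have hgι : ∀ w : S, g (ι w) = φ (e.symm w) := by
    intro w
    show g ((1 : A) ⊗ₜ[R] w) = _
    rw [Algebra.TensorProduct.productMap_apply_tmul, map_one, one_mul]
    rfl
  have hg : ∀ z ∈ N, g z = 0 := by
    intro z hz
    obtain ⟨w, s, hs, hzw⟩ := exists_denominator R p A S z
    have h1 : ι w ∈ N := by
      show (1 : A) ⊗ₜ[R] w ∈ N
      rw [← hzw]
      exact N.mul_mem_right _ hz
    have h2 : e.symm w ∈ P := by
      show ι (e (e.symm w)) ∈ N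
      rw [e.apply_symm_apply]
      exact h1
    have h3 : g (ι w) = 0 := by
      rw [hgι]
      have : e.symm w ∈ RingHom.ker φ.toRingHom := hker ▸ h2
      exact this
    have h4 : g z * g (ι (algebraMap R S s)) = 0 := by
      rw [← map_mul]
      show g (z * ((1 : A) ⊗ₜ[R] (algebraMap R S s))) = 0
      rw [hzw]
      exact h3
    have h5 : g (ι (algebraMap R S s)) ≠ 0 := by
      rw [hgι, e.symm.commutes]
      exact (hunit ⟨s, hs⟩).ne_zero
    exact (mul_eq_zero.mp h4).resolve_right h5
  let g' : integralClosure A (FractionRing A) →+* L :=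
    g.toRingHom.comp τ.symm.toRingEquiv.toRingHom
  have hg' : ∀ z ∈ n', g' z = 0 := by
    intro z hz
    apply hg
    show τ (τ.symm z) ∈ n'
    rw [τ.apply_symm_apply]
    exact hz
  let f₀ : integralClosure A (FractionRing A) ⧸ n' →+* L := Ideal.Quotient.lift n' g' hg'
  let f : integralClosure A (FractionRing A) ⧸ n' →ₐ[k] L :=
    { f₀ with
      commutes' := fun c => by
        show f₀ (Ideal.Quotient.mk n' (algebraMap k (integralClosure A (FractionRing A)) c)) = _
        rw [Ideal.Quotient.lift_mk]
        show g (τ.symm (algebraMap k (integralClosure A (FractionRing A)) c)) = _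
        rw [IsScalarTower.algebraMap_apply k A (integralClosure A (FractionRing A)),
          τ.symm.commutes, Algebra.TensorProduct.algebraMap_apply, Algebra.algebraMap_self,
          RingHom.id_apply, Algebra.TensorProduct.productMap_apply_tmul, map_one, mul_one,
          IsScalarTower.algebraMap_apply k R A, AlgHom.commutes]
        show φ (algebraMap R R' (algebraMap k R c)) = _
        rw [← IsScalarTower.algebraMap_apply k R R', AlgHom.commutes] }
  letI : Field (integralClosure A (FractionRing A) ⧸ n') := Ideal.Quotient.field n'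
  have hf : Function.Injective f := RingHom.injective f.toRingHom
  exact isReduced_of_injective (Algebra.TensorProduct.map f (AlgHom.id k K))
    (Module.Flat.rTensor_preserves_injective_linearMap _ hf)

end Main

end Groth.Agent.Helper2.DeltaBC
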