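import Mathlib
import Groth.Prelude
import Groth.Agent.Lib.Helper2.Norm.BCAlg2
import Groth.Agent.Lib.Helper8.NormRed1

set_option autoImplicit false
set_option backward.isDefEq.respectTransparency.types false
set_option synthInstance.maxHeartbeats 400000
set_option maxHeartbeats 4000000
set_option linter.style.haveILetI false
set_option linter.unusedSectionVars false
set_option linter.unusedVariables false

/-!
# The δ-invariant can only grow under flat local maps; reduced localizations (helper2)
-/

universe u

namespace Groth.Agent.Helper2.DeltaBC

open TensorProduct IsLocalRing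

section Ineq

variable (A B : Type u) [CommRing A] [CommRing B] [IsLocalRing A] [IsLocalRing B]
  [Algebra A B] [Module.Flat A B] [IsLocalHom (algebraMap A B)]

/-- the δ-invariant can only grow along a flat local homomorphism (when the normalization of
the source is finite) -/
theorem deltaInv_le_of_flat [Module.Finite A (integralClosure A (FractionRing A))] :
    Curv2.deltaInv A ≤ Curv2.deltaInv B := by
  haveI : Module.FaithfullyFlat A B := Module.FaithfullyFlat.of_flat_of_isLocalHom
  unfold Curv2.deltaInv
  refine (Groth.Agent.Helper8.Len.length_le_length_tensor (A := A) (B := B) (N := B) _).trans ?_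
  rw [← Groth.Agent.Helper8.DeltaInv.length_tensor_quotient_eq A B]
  -- the comparison map
  let φ := Groth.Agent.Helper8.DeltaInv.phi A B
  have hφ : Function.Injective φ := Groth.Agent.Helper8.DeltaInv.phi_injective A B
  have hint : ∀ τ, φ τ ∈ integralClosure B (FractionRing B) := by
    intro τ
    haveI : Module.Finite B (B ⊗[A] integralClosure A (FractionRing A)) := inferInstance
    have hτ : IsIntegral B τ := Algebra.IsIntegral.isIntegral τ
    exact hτ.map φ
  let ψ : B ⊗[A] integralClosure A (FractionRing A) →ₗ[B] integralClosure B (FractionRing B) :=
    LinearMap.codRestrict (Subalgebra.toSubmodule (integralClosure B (FractionRing B)))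
      φ.toLinearMap hint
  have hψ : Function.Injective ψ := fun a b h => hφ (congrArg Subtype.val h)
  have hψ1 : ∀ b : B, ψ (algebraMap B _ b) = algebraMap B _ b := by
    intro b
    apply Subtype.ext
    show φ (algebraMap B _ b) = algebraMap B (FractionRing B) b
    exact φ.commutes b
  let P := LinearMap.range (Algebra.linearMap B (B ⊗[A] integralClosure A (FractionRing A)))
  let Q := LinearMap.range (Algebra.linearMap B (integralClosure B (FractionRing B)))
  have hPQ : P ≤ Q.comap ψ := by
    rintro _ ⟨b, rfl⟩
    exact ⟨b, (hψ1 b).symm⟩
  let ψbar : (B ⊗[A] integralClosure A (FractionRing A)) ⧸ P →ₗ[B]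
      integralClosure B (FractionRing B) ⧸ Q := Submodule.mapQ P Q ψ hPQ
  have hinj : Function.Injective ψbar := by
    rw [← LinearMap.ker_eq_bot, LinearMap.ker_eq_bot']
    intro z hz
    obtain ⟨τ, rfl⟩ := Submodule.Quotient.mk_surjective P z
    have h1 : ψ τ ∈ Q := by
      have : ψbar (Submodule.Quotient.mk τ) = Submodule.Quotient.mk (ψ τ) := rfl
      rw [this, Submodule.Quotient.mk_eq_zero] at hz
      exact hz
    obtain ⟨b, hb⟩ := h1
    have h2 : τ = algebraMap B _ b := by
      apply hψ
      rw [hψ1]
      exact hb.symm
    rw [Submodule.Quotient.mk_eq_zero]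
    exact ⟨b, h2.symm⟩
  exact Module.length_le_of_injective ψbar hinj

end Ineq

section Reduced

open Groth.Agent.Helper8

/-- normality of the localizations of `A ⊗ IC(R)`, reduced version -/
theorem normal_tensor_localization_of_isReduced (R : Type u) [CommRing R] [IsNoetherianRing R]
    [IsReduced R] (p : Ideal R) [p.IsPrime]
    (A : Type u) [CommRing A] [Algebra R A] [IsLocalization.AtPrime A p]
    (N : Ideal (A ⊗[R] integralClosure R (FractionRing R))) [N.IsMaximal] :
    IsDomain (Localization.AtPrime N) ∧ IsIntegrallyClosed (Localization.AtPrime N) := by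
  letI algST : Algebra (integralClosure R (FractionRing R))
      (A ⊗[R] integralClosure R (FractionRing R)) := Algebra.TensorProduct.rightAlgebra
  haveI hloc : IsLocalization
      (Algebra.algebraMapSubmonoid (integralClosure R (FractionRing R)) p.primeCompl)
      (A ⊗[R] integralClosure R (FractionRing R)) :=
    IsLocalization.tensorRight (R := R) (S := integralClosure R (FractionRing R)) (A := A)
      p.primeCompl
  let P : Ideal (integralClosure R (FractionRing R)) :=
    N.comap (algebraMap (integralClosure R (FractionRing R))
      (A ⊗[R] integralClosure R (FractionRing R)))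
  haveI : P.IsPrime := Ideal.IsPrime.comap _
  haveI : Ring.KrullDimLE 0 (FractionRing R) :=
    NormRed.krullDimLE_zero_fractionRing R (minimalPrimes.finite_of_isNoetherianRing R)
  obtain ⟨hdom, hic⟩ := NormRed.normal_localization_atPrime
    (integralClosure R (FractionRing R)) (FractionRing R) P
  haveI : IsLocalization.AtPrime (Localization.AtPrime N) P :=
    IsLocalization.isLocalization_isLocalization_atPrime_isLocalization
      (Algebra.algebraMapSubmonoid (integralClosure R (FractionRing R)) p.primeCompl)
      (Localization.AtPrime N) N
  let ε : Localization.AtPrime P ≃ₐ[integralClosure R (FractionRing R)] Localization.AtPrime N :=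
    IsLocalization.algEquiv P.primeCompl _ _
  let ε' : Localization.AtPrime P ≃+* Localization.AtPrime N := ε.toRingEquiv
  exact ⟨ε'.symm.toMulEquiv.isDomain _, IsIntegrallyClosed.of_equiv (R := Localization.AtPrime P) ε'⟩

theorem finite_integralClosure_localization_of_isReduced (R : Type u) [CommRing R]
    [IsNoetherianRing R] [IsReduced R]
    [Module.Finite R (integralClosure R (FractionRing R))] (p : Ideal R) [p.IsPrime]
    (A : Type u) [CommRing A] [Algebra R A] [IsLocalization.AtPrime A p] :
    Module.Finite A (integralClosure A (FractionRing A)) := by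
  haveI : Module.Flat R A := IsLocalization.flat A p.primeCompl
  let τ : A ⊗[R] integralClosure R (FractionRing R) ≃ₐ[A] integralClosure A (FractionRing A) :=
    Groth.Agent.Helper8.DeltaInv.tensorEquiv R A (fun N _ =>
      normal_tensor_localization_of_isReduced R p A N)
  exact Module.Finite.equiv τ.toLinearEquiv

end Reduced

end Groth.Agent.Helper2.DeltaBC
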