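import Mathlib
import Groth.Prelude
import Groth.Agent.Lib.Helper4.Japanese3
import Groth.Agent.Lib.Helper2.Norm.DeltaAlg
import Groth.Agent.Lib.Helper1.QcExt
import Groth.Agent.Lib.Lead.SD1
import Groth.Agent.Lib.Helper1.IdealModL

/-!
# Sections of the normalization over an affine open (helper2)

`Γ(X^ν, ν⁻¹U) ≃ₐ[Γ(X,U)] integralClosure Γ(X,U) (FractionRing Γ(X,U))`.
-/

set_option autoImplicit false
set_option backward.isDefEq.respectTransparency.types false
set_option synthInstance.maxHeartbeats 400000
set_option maxHeartbeats 4000000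
set_option linter.style.haveILetI false
set_option linter.unusedSectionVars false

universe u

namespace Groth.Agent.Helper2.NormDelta

open CategoryTheory CategoryTheory.Limits AlgebraicGeometry TopologicalSpace Opposite IsLocalRing
open Groth.Agent.Lib.Helper4.NormalizationField1 Groth.Agent.Lib.Helper4.NormalizationField3
open Groth.Agent.Lib.Helper4.NormalizationField2
open Groth.Agent.Lib.Helper4.Japanese1 Groth.Agent.Lib.Helper4.Japanese2

section Sections

variable (X : Scheme.{u}) [IsIntegral X]
  [QuasiCompact (X.fromSpecStalk (genericPoint X))]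
  [QuasiSeparated (X.fromSpecStalk (genericPoint X))]

/-- sections of the generic point over a nonempty affine open are the function field -/
theorem exists_algEquiv_sections_generic (U : X.Opens) (hU : IsAffineOpen U) [Nonempty U] :
    letI := ((X.fromSpecStalk (genericPoint X)).app U).hom.toAlgebra
    Nonempty (Γ(Spec (X.presheaf.stalk (genericPoint X)),
      (X.fromSpecStalk (genericPoint X)) ⁻¹ᵁ U) ≃ₐ[Γ(X, U)] X.functionField) := by
  letI algAL : Algebra Γ(X, U) Γ(Spec (X.presheaf.stalk (genericPoint X)),
    (X.fromSpecStalk (genericPoint X)) ⁻¹ᵁ U) := ((X.fromSpecStalk (genericPoint X)).app U).hom.toAlgebra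
  have hηU : genericPoint X ∈ U :=
    ((genericPoint_spec X).mem_open_set_iff U.isOpen).mpr
      (by obtain ⟨⟨x, hx⟩⟩ := ‹Nonempty U›; exact ⟨x, trivial, hx⟩)
  have hgpt : (X.fromSpecStalk (genericPoint X)) (closedPoint (X.presheaf.stalk (genericPoint X))) =
      genericPoint X := fromSpecStalk_genericPoint_apply X _
  have hV : closedPoint (X.presheaf.stalk (genericPoint X)) ∈
      (X.fromSpecStalk (genericPoint X)) ⁻¹ᵁ U := by
    show (X.fromSpecStalk (genericPoint X)) _ ∈ U
    rw [hgpt]; exact hηU
  have hU' : (X.fromSpecStalk (genericPoint X))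
      (closedPoint (X.presheaf.stalk (genericPoint X))) ∈ U := hV
  have hKf : IsField (X.presheaf.stalk (genericPoint X)) := isField_functionField X
  have hbij := bijective_evClosed_of_isField _ hKf _ hV
  have hcomm : ∀ a : Γ(X, U), (evClosed (X.presheaf.stalk (genericPoint X)) _ hV).hom
      (algebraMap Γ(X, U) _ a) = algebraMap Γ(X, U) X.functionField a := by
    intro a
    have h1 := stalkClosedPointTo_germ_eq_evClosed (X.presheaf.stalk (genericPoint X))
      (X.fromSpecStalk (genericPoint X)) U hU' _ le_rfl hV a
    have h2 := stalkClosedPointTo_germ_of_eq (X := X) X.functionField (RingHom.id _)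
      (X.fromSpecStalk (genericPoint X)) (by
        have : CommRingCat.ofHom (RingHom.id X.functionField) = 𝟙 _ := rfl
        rw [this, Spec.map_id]
        exact (Category.id_comp _).symm) U hU' hηU a
    rw [h1] at h2
    rw [← Scheme.Hom.app_eq_appLE] at h2
    exact h2
  exact ⟨{ RingEquiv.ofBijective _ hbij with commutes' := hcomm }⟩

/-- sections of the normalization over a nonempty affine open are the normalization of the
coordinate ring -/
theorem exists_algEquiv_normalization (U : X.Opens) (hU : IsAffineOpen U) [Nonempty U] :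
    letI := ((X.fromSpecStalk (genericPoint X)).fromNormalization.app U).hom.toAlgebra
    Nonempty (Γ((X.fromSpecStalk (genericPoint X)).normalization,
      (X.fromSpecStalk (genericPoint X)).fromNormalization ⁻¹ᵁ U) ≃ₐ[Γ(X, U)]
        integralClosure Γ(X, U) (FractionRing Γ(X, U))) := by
  letI algAB : Algebra Γ(X, U) Γ((X.fromSpecStalk (genericPoint X)).normalization,
      (X.fromSpecStalk (genericPoint X)).fromNormalization ⁻¹ᵁ U) :=
    ((X.fromSpecStalk (genericPoint X)).fromNormalization.app U).hom.toAlgebra
  letI algAL : Algebra Γ(X, U) Γ(Spec (X.presheaf.stalk (genericPoint X)),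
    (X.fromSpecStalk (genericPoint X)) ⁻¹ᵁ U) := ((X.fromSpecStalk (genericPoint X)).app U).hom.toAlgebra
  haveI := functionField_isFractionRing_of_isAffineOpen X U hU
  obtain ⟨e2⟩ := exists_algEquiv_sections_generic X U hU
  let e3 : X.functionField ≃ₐ[Γ(X, U)] FractionRing Γ(X, U) :=
    (FractionRing.algEquiv Γ(X, U) X.functionField).symm
  let iso := (X.fromSpecStalk (genericPoint X)).normalizationObjIso hU
  have hν := (X.fromSpecStalk (genericPoint X)).fromNormalization_app hU
  let e1 : Γ((X.fromSpecStalk (genericPoint X)).normalization,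
      (X.fromSpecStalk (genericPoint X)).fromNormalization ⁻¹ᵁ U) ≃ₐ[Γ(X, U)]
      integralClosure Γ(X, U) Γ(Spec (X.presheaf.stalk (genericPoint X)),
        (X.fromSpecStalk (genericPoint X)) ⁻¹ᵁ U) :=
    { iso.commRingCatIsoToRingEquiv with
      commutes' := fun a => by
        show iso.hom.hom (((X.fromSpecStalk (genericPoint X)).fromNormalization.app U).hom a) = _
        rw [hν]
        show iso.hom.hom (iso.inv.hom _) = _
        rw [← CommRingCat.comp_apply, iso.inv_hom_id]
        rfl }
  exact ⟨e1.trans (e2.trans e3).mapIntegralClosure⟩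

end Sections

section Coker

open Groth.Agent.Helper1

variable {X : Scheme.{u}}

/-- the action of a morphism of modules on sections, as a linear map -/
noncomputable def appₗ {M N : X.Modules} (φ : M ⟶ N) (U : X.Opens) :
    Γ(M, U) →ₗ[Γ(X, U)] Γ(N, U) where
  toFun := φ.app U
  map_add' := map_add _
  map_smul' r x := Scheme.Modules.Hom.app_smul φ r x

variable {F G : X.Modules} (φ : F ⟶ G)

theorem cokernel_shortExact [Mono φ] :
    (ShortComplex.mk φ (cokernel.π φ) (cokernel.condition φ)).ShortExact :=
  { exact := ShortComplex.exact_cokernel φ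
    mono_f := ‹Mono φ›
    epi_g := inferInstanceAs (Epi (cokernel.π φ)) }

theorem app_cokernel_surjective [Mono φ] [F.IsQuasicoherent] (U : X.Opens) (hU : IsAffineOpen U) :
    Function.Surjective ((cokernel.π φ).app U) :=
  QcExt.app_surjective (S := ShortComplex.mk φ (cokernel.π φ) (cokernel.condition φ))
    (cokernel_shortExact φ) U hU

theorem app_cokernel_eq_zero_iff [Mono φ] (U : X.Opens) (x : Γ(G, U)) :
    (cokernel.π φ).app U x = 0 ↔ ∃ y : Γ(F, U), φ.app U y = x := by
  constructor
  · intro hx
    exact QcExt.app_exact (S := ShortComplex.mk φ (cokernel.π φ) (cokernel.condition φ))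
      (cokernel_shortExact φ) U x hx
  · rintro ⟨y, rfl⟩
    exact QcExt.app_zero (ShortComplex.mk φ (cokernel.π φ) (cokernel.condition φ)) U y

end Coker

section Stalk

open Groth.Agent.Lead

attribute [local instance] SD.stalkModule

variable (X : Scheme.{u}) [IsIntegral X]
  [QuasiCompact (X.fromSpecStalk (genericPoint X))]
  [QuasiSeparated (X.fromSpecStalk (genericPoint X))]

/-- **the stalk of `ν_*O/O` at a point has length the δ-invariant** -/
theorem length_stalk_cokernel {U : X.Opens} (hU : IsAffineOpen U) (x : U)
    [Mono (ClSub.unitToPush (X.fromSpecStalk (genericPoint X)).fromNormalization)]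
    [(cokernel (ClSub.unitToPush
      (X.fromSpecStalk (genericPoint X)).fromNormalization)).IsQuasicoherent]
    (hfin : haveI : Nonempty U := ⟨x⟩
      Module.Finite Γ(X, U) (integralClosure Γ(X, U) (FractionRing Γ(X, U)))) :
    Module.length (X.presheaf.stalk x.1) ((cokernel (ClSub.unitToPush
      (X.fromSpecStalk (genericPoint X)).fromNormalization)).presheaf.stalk x.1) =
      Curv2.deltaInv (X.presheaf.stalk x.1) := by
  haveI : Nonempty U := ⟨x⟩
  haveI := hfin
  set ν := (X.fromSpecStalk (genericPoint X)).fromNormalization with hν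
  set u := ClSub.unitToPush ν with hu
  letI algAB : Algebra Γ(X, U) Γ((X.fromSpecStalk (genericPoint X)).normalization, ν ⁻¹ᵁ U) :=
    (ν.app U).hom.toAlgebra
  obtain ⟨e⟩ := exists_algEquiv_normalization X U hU
  haveI := hU.isLocalization_stalk x
  haveI := SD.isLocalizedModule_germ (cokernel u) hU x
  haveI : (Coh.structureModule X).IsQuasicoherent :=
    Groth.Agent.Helper1.IdealModL.isQuasicoherent_structureModule
  let π : Γ((X.fromSpecStalk (genericPoint X)).normalization, ν ⁻¹ᵁ U) →ₗ[Γ(X, U)]
      Γ(cokernel u, U) :=
    { toFun := fun b => (cokernel.π u).app U b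
      map_add' := fun a b => map_add _ a b
      map_smul' := fun r b => Scheme.Modules.Hom.app_smul (cokernel.π u) r b }
  have hπ : Function.Surjective π := app_cokernel_surjective u U hU
  have hker : LinearMap.ker π = LinearMap.range (Algebra.linearMap Γ(X, U)
      Γ((X.fromSpecStalk (genericPoint X)).normalization, ν ⁻¹ᵁ U)) := by
    ext b
    rw [LinearMap.mem_ker, LinearMap.mem_range]
    exact app_cokernel_eq_zero_iff u U b
  exact deltaInv_eq_length' Γ(X, U) (hU.primeIdealOf x).asIdeal (X.presheaf.stalk x.1)
    Γ((X.fromSpecStalk (genericPoint X)).normalization, ν ⁻¹ᵁ U) e Γ(cokernel u, U) π hπ hker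
    ((cokernel u).presheaf.stalk x.1) (SD.germₗ (cokernel u) x)

end Stalk

end Groth.Agent.Helper2.NormDelta
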