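import Mathlib
import Groth.Prelude
import Groth.Agent.Lib.Helper2.Norm.BCAlg2
import Groth.Agent.Lib.Helper2.Norm.DeltaSch
import Groth.Agent.S1560
import Groth.Agent.Lib.Helper4.Nagata3
import Groth.Agent.Lib.Helper8.Tate2

set_option autoImplicit false
set_option backward.isDefEq.respectTransparency.types false
set_option synthInstance.maxHeartbeats 400000
set_option maxHeartbeats 4000000
set_option linter.style.haveILetI false
set_option linter.unusedSectionVars false
set_option linter.unusedVariables false

/-!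
# The δ-invariant under a field base change: schemes (helper2)
-/

universe u

namespace Groth.Agent.Helper2.DeltaBC

open CategoryTheory CategoryTheory.Limits AlgebraicGeometry TopologicalSpace Opposite IsLocalRing
open TensorProduct

/-- a geometrically reduced residue field stays reduced after any field extension -/
theorem isReduced_residueField_tensor (k : Type u) [Field k] (Y : Scheme.{u})
    [Y.Over (Spec (CommRingCat.of k))] (x' : Y) (K : Type u) [Field K] [Algebra k K]
    (h : GeometricallyReduced (Spec.map (CommRingCat.ofHom (Curv2.resMap k Y x')))) :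
    letI : Algebra k (Y.residueField x') := (Curv2.resMap k Y x').toAlgebra
    _root_.IsReduced ((Y.residueField x') ⊗[k] K) := by
  letI : Algebra k (Y.residueField x') := (Curv2.resMap k Y x').toAlgebra
  have h1 : AlgebraicGeometry.IsReduced
      (pullback (Spec.map (CommRingCat.ofHom (algebraMap k (Y.residueField x'))))
        (Spec.map (CommRingCat.ofHom (algebraMap k K)))) :=
    pullback_of_geometrically (GeometricallyReduced.geometrically_isReduced) K _
  have h2 : AlgebraicGeometry.IsReduced (Spec (CommRingCat.of ((Y.residueField x') ⊗[k] K))) :=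
    isReduced_of_isOpenImmersion (pullbackSpecIso k (Y.residueField x') K).inv
  exact (affine_isReduced_iff (CommRingCat.of _)).mp h2

section Chart

variable (k : Type u) [Field k] (X : Scheme.{u}) [X.Over (Spec (CommRingCat.of k))]

/-- the `k`-algebra structure on the sections over an open -/
noncomputable abbrev secAlg (U : X.Opens) : Algebra k Γ(X, U) :=
  ((X.presheaf.map (homOfLE (le_top : U ≤ ⊤)).op).hom.comp
    (Coh.toGlobal (X ↘ Spec (CommRingCat.of k)))).toAlgebra

theorem finiteType_sections [LocallyOfFiniteType (X ↘ Spec (CommRingCat.of k))]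
    (U : X.Opens) (hU : IsAffineOpen U) :
    letI := secAlg k X U
    Algebra.FiniteType k Γ(X, U) := by
  letI := secAlg k X U
  have h1 : ((X ↘ Spec (CommRingCat.of k)).appLE ⊤ U le_top).hom.FiniteType :=
    LocallyOfFiniteType.finiteType_appLE (X ↘ Spec (CommRingCat.of k)) (isAffineOpen_top _) hU _
  have h2 : ((Scheme.ΓSpecIso (CommRingCat.of k)).inv.hom).FiniteType :=
    RingHom.FiniteType.of_surjective _
      ((ConcreteCategory.bijective_of_isIso (Scheme.ΓSpecIso (CommRingCat.of k)).inv).2)
  have h3 := h1.comp h2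
  exact h3

variable [IsIntegral X]
  [QuasiCompact (X.fromSpecStalk (genericPoint X))]
  [QuasiSeparated (X.fromSpecStalk (genericPoint X))]

attribute [local instance] Curv2.stalkAlgebra

/-- the normalization of the local ring is finite, and its residue fields are geometrically
reduced over `k` when those of the points of `X^ν` over `x` are -/
theorem hred_of_hsep [LocallyOfFiniteType (X ↘ Spec (CommRingCat.of k))]
    (K : Type u) [Field K] [Algebra k K] (x : X)
    (hsep : letI : (Curv2.normalization X).Over (Spec (CommRingCat.of k)) :=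
        ⟨Curv2.normalizationι X ≫ (X ↘ (Spec (CommRingCat.of k)))⟩
      ∀ x' : ↥(Curv2.normalization X), (Curv2.normalizationι X).base x' = x →
        GeometricallyReduced (Spec.map (CommRingCat.ofHom
          (Curv2.resMap k (Curv2.normalization X) x')))) :
    Module.Finite (X.presheaf.stalk x)
        (integralClosure (X.presheaf.stalk x) (FractionRing (X.presheaf.stalk x))) ∧
      ∀ (n' : Ideal (integralClosure (X.presheaf.stalk x) (FractionRing (X.presheaf.stalk x))))
        [n'.IsMaximal],
        _root_.IsReduced ((integralClosure (X.presheaf.stalk x)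
          (FractionRing (X.presheaf.stalk x)) ⧸ n') ⊗[k] K) := by
  obtain ⟨_, ⟨U, hU, rfl⟩, hxU, -⟩ :=
    X.isBasis_affineOpens.exists_subset_of_mem_open (Set.mem_univ x) isOpen_univ
  haveI hne : Nonempty U := ⟨⟨x, hxU⟩⟩
  haveI : IsDomain Γ(X, U) := IsIntegral.component_integral (X := X) (U := U)
  letI algkR : Algebra k Γ(X, U) := secAlg k X U
  haveI hft : Algebra.FiniteType k Γ(X, U) := finiteType_sections k X U hU
  have hNag := Groth.Agent.Lib.Helper4.Nagata3.isNagata_of_finiteType_field k Γ(X, U)
  haveI hfinR : Module.Finite Γ(X, U) (integralClosure Γ(X, U) (FractionRing Γ(X, U))) := by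
    have h := hNag.2 (⊥ : Ideal Γ(X, U))
    have hN2 := Groth.Agent.Helper8.Tate.isN2_of_ringEquiv (RingEquiv.quotientBot Γ(X, U)) h
    exact hN2 (FractionRing Γ(X, U)) inferInstance
  set ν := (X.fromSpecStalk (genericPoint X)).fromNormalization with hν
  letI algRR' : Algebra Γ(X, U) Γ((X.fromSpecStalk (genericPoint X)).normalization, ν ⁻¹ᵁ U) :=
    (ν.app U).hom.toAlgebra
  obtain ⟨e⟩ := Groth.Agent.Helper2.NormDelta.exists_algEquiv_normalization X U hU
  letI algkR' : Algebra k Γ((X.fromSpecStalk (genericPoint X)).normalization, ν ⁻¹ᵁ U) :=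
    ((ν.app U).hom.comp (algebraMap k Γ(X, U))).toAlgebra
  haveI : IsScalarTower k Γ(X, U) Γ((X.fromSpecStalk (genericPoint X)).normalization, ν ⁻¹ᵁ U) :=
    IsScalarTower.of_algebraMap_eq (fun _ => rfl)
  letI algRA : Algebra Γ(X, U) (X.presheaf.stalk x) :=
    TopCat.Presheaf.algebra_section_stalk X.presheaf ⟨x, hxU⟩
  haveI hloc : IsLocalization.AtPrime (X.presheaf.stalk x) (hU.primeIdealOf ⟨x, hxU⟩).asIdeal :=
    hU.isLocalization_stalk ⟨x, hxU⟩
  haveI : IsScalarTower k Γ(X, U) (X.presheaf.stalk x) :=
    IsScalarTower.of_algebraMap_eq (fun c => by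
      show (X.presheaf.germ ⊤ x trivial).hom (Coh.toGlobal (X ↘ Spec (CommRingCat.of k)) c) =
        (X.presheaf.germ U x hxU).hom ((X.presheaf.map (homOfLE (le_top : U ≤ ⊤)).op).hom
          (Coh.toGlobal (X ↘ Spec (CommRingCat.of k)) c))
      exact (TopCat.Presheaf.germ_res_apply X.presheaf (homOfLE (le_top : U ≤ ⊤)) x hxU _).symm)
  refine ⟨finite_integralClosure_localization Γ(X, U) (hU.primeIdealOf ⟨x, hxU⟩).asIdeal
    (X.presheaf.stalk x), ?_⟩
  intro n' hn'
  refine isReduced_quotient_tensor_of_global k Γ(X, U)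
    Γ((X.fromSpecStalk (genericPoint X)).normalization, ν ⁻¹ᵁ U)
    (hU.primeIdealOf ⟨x, hxU⟩).asIdeal (X.presheaf.stalk x) K e ?_ n'
  intro P hP hPp
  haveI := hP
  have hV : IsAffineOpen (ν ⁻¹ᵁ U) := hU.preimage ν
  let x' : ↥((X.fromSpecStalk (genericPoint X)).normalization) := hV.fromSpec ⟨P, hP⟩
  have hx'V : x' ∈ ν ⁻¹ᵁ U := by
    rw [← SetLike.mem_coe, ← hV.range_fromSpec]
    exact ⟨_, rfl⟩
  have hprime : hV.primeIdealOf ⟨x', hx'V⟩ = ⟨P, hP⟩ := by
    apply hV.fromSpec.isOpenEmbedding.injective
    exact hV.fromSpec_primeIdealOf ⟨x', hx'V⟩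
  have hνx' : ν x' = x := by
    have h1 := IsAffineOpen.comap_primeIdealOf_appLE (f := ν) U hU (ν ⁻¹ᵁ U) hV le_rfl hx'V
    rw [hprime] at h1
    have h2 : hU.primeIdealOf ⟨ν x', hx'V⟩ = hU.primeIdealOf ⟨x, hxU⟩ := by
      rw [← h1]
      apply PrimeSpectrum.ext
      show P.comap (ν.appLE U (ν ⁻¹ᵁ U) le_rfl).hom = _
      rw [Scheme.Hom.appLE_eq_app]
      exact hPp
    have h3 := congrArg (fun z => hU.fromSpec z) h2
    simp only [IsAffineOpen.fromSpec_primeIdealOf] at h3
    exact h3
  letI instO : ((X.fromSpecStalk (genericPoint X)).normalization).Over (Spec (CommRingCat.of k)) :=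
    ⟨ν ≫ (X ↘ Spec (CommRingCat.of k))⟩
  letI algkL : Algebra k ((X.fromSpecStalk (genericPoint X)).normalization.residueField x') :=
    (Curv2.resMap k ((X.fromSpecStalk (genericPoint X)).normalization) x').toAlgebra
  let φ₀ : Γ((X.fromSpecStalk (genericPoint X)).normalization, ν ⁻¹ᵁ U) →+*
      (X.fromSpecStalk (genericPoint X)).normalization.residueField x' :=
    (((X.fromSpecStalk (genericPoint X)).normalization.presheaf.germ (ν ⁻¹ᵁ U) x' hx'V) ≫
      (X.fromSpecStalk (genericPoint X)).normalization.residue x').hom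
  have hcomm : ∀ c : k, φ₀ (algebraMap k _ c) = algebraMap k _ c := by
    intro c
    set a := Coh.toGlobal (X ↘ Spec (CommRingCat.of k)) c with ha
    have hnat : (ν.app U).hom ((X.presheaf.map (homOfLE (le_top : U ≤ ⊤)).op).hom a) =
        ((X.fromSpecStalk (genericPoint X)).normalization.presheaf.map
          (homOfLE (le_top : ν ⁻¹ᵁ U ≤ ⊤)).op).hom ((ν.app ⊤).hom a) := by
      have := ν.naturality (homOfLE (le_top : U ≤ ⊤)).op
      exact congrArg (fun f => f.hom a) this
    show ((X.fromSpecStalk (genericPoint X)).normalization.residue x').hom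
        (((X.fromSpecStalk (genericPoint X)).normalization.presheaf.germ (ν ⁻¹ᵁ U) x' hx'V).hom
          ((ν.app U).hom ((X.presheaf.map (homOfLE (le_top : U ≤ ⊤)).op).hom a))) =
      ((X.fromSpecStalk (genericPoint X)).normalization.residue x').hom
        (((X.fromSpecStalk (genericPoint X)).normalization.presheaf.germ ⊤ x' trivial).hom
          ((ν.appTop).hom a))
    rw [hnat, TopCat.Presheaf.germ_res_apply]
    rfl
  let φ : Γ((X.fromSpecStalk (genericPoint X)).normalization, ν ⁻¹ᵁ U) →ₐ[k]
      (X.fromSpecStalk (genericPoint X)).normalization.residueField x' :=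
    { φ₀ with commutes' := hcomm }
  refine ⟨(X.fromSpecStalk (genericPoint X)).normalization.residueField x', inferInstance,
    algkL, φ, ?_, ?_⟩
  · have hP2 : P = Ideal.comap
        ((X.fromSpecStalk (genericPoint X)).normalization.presheaf.germ (ν ⁻¹ᵁ U) x' hx'V).hom
        (maximalIdeal ((X.fromSpecStalk (genericPoint X)).normalization.presheaf.stalk x')) := by
      have h4 := congrArg PrimeSpectrum.asIdeal (hV.primeIdealOf_eq_map_closedPoint ⟨x', hx'V⟩)
      rw [hprime] at h4
      exact h4
    ext z
    rw [RingHom.mem_ker, hP2, Ideal.mem_comap]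
    show IsLocalRing.residue _ _ = 0 ↔ _
    rw [IsLocalRing.residue_eq_zero_iff]
    exact Iff.rfl
  · exact isReduced_residueField_tensor k ((X.fromSpecStalk (genericPoint X)).normalization) x' K
      (hsep x' hνx')

/-- **δ-invariants are unchanged by a field extension at points where the normalization has
separable residue fields** -/
theorem main [LocallyOfFiniteType (X ↘ (Spec (CommRingCat.of k)))]
    (K : Type u) [Field K] [Algebra k K] (y : ↥(Curv2.bc k X K))
    (hdx : ringKrullDim (X.presheaf.stalk ((Curv2.bcFst k X K).base y)) = 1)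
    (hsep : letI : (Curv2.normalization X).Over (Spec (CommRingCat.of k)) :=
        ⟨Curv2.normalizationι X ≫ (X ↘ (Spec (CommRingCat.of k)))⟩
      ∀ x' : ↥(Curv2.normalization X),
        (Curv2.normalizationι X).base x' = (Curv2.bcFst k X K).base y →
        GeometricallyReduced (Spec.map (CommRingCat.ofHom
          (Curv2.resMap k (Curv2.normalization X) x'))))
    (hdy : ringKrullDim ((Curv2.bc k X K).presheaf.stalk y) = 1) :
    Curv2.deltaInv (X.presheaf.stalk ((Curv2.bcFst k X K).base y)) =
      Curv2.deltaInv ((Curv2.bc k X K).presheaf.stalk y) := by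
  set x := (Curv2.bcFst k X K).base y with hx
  obtain ⟨hfin, hred⟩ := hred_of_hsep k X K x hsep
  haveI := hfin
  obtain ⟨q, hq, ⟨eB⟩⟩ := Groth.Agent.S1560.exists_stalk_equiv_of_mem
    (X ↘ Spec (CommRingCat.of k)) x (Groth.Agent.S1560.specMap_stalkMap k X x) y
    (IsLocalRing.closedPoint _) (by rw [Scheme.fromSpecStalk_closedPoint])
  rw [deltaInv_eq_of_ringEquiv eB]
  symm
  haveI : IsLocallyNoetherian X :=
    LocallyOfFiniteType.isLocallyNoetherian (X ↘ Spec (CommRingCat.of k))
  haveI : IsLocallyNoetherian (Curv2.bc k X K) :=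
    LocallyOfFiniteType.isLocallyNoetherian (Curv2.bcSnd k X K)
  haveI : IsNoetherianRing (Localization.AtPrime q.asIdeal) :=
    isNoetherianRing_of_ringEquiv _ eB
  haveI : IsLocalHom (algebraMap (X.presheaf.stalk x) (Localization.AtPrime q.asIdeal)) := by
    refine ((IsLocalRing.local_hom_TFAE _).out 0 4).mpr ?_
    have h1 : Ideal.comap (algebraMap (X.presheaf.stalk x ⊗[k] K)
        (Localization.AtPrime q.asIdeal)) (maximalIdeal (Localization.AtPrime q.asIdeal)) =
        q.asIdeal := Localization.AtPrime.under_maximalIdeal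
    rw [IsScalarTower.algebraMap_eq (X.presheaf.stalk x) (X.presheaf.stalk x ⊗[k] K)
      (Localization.AtPrime q.asIdeal), ← Ideal.comap_comap, h1]
    exact congrArg PrimeSpectrum.asIdeal hq
  haveI : Module.Flat (X.presheaf.stalk x) (Localization.AtPrime q.asIdeal) :=
    Module.Flat.trans (X.presheaf.stalk x) (X.presheaf.stalk x ⊗[k] K)
      (Localization.AtPrime q.asIdeal)
  exact deltaInv_eq_of_field_ext k (X.presheaf.stalk x) K (Localization.AtPrime q.asIdeal)
    q.asIdeal.primeCompl hdx (by rw [← ringKrullDim_eq_of_ringEquiv eB]; exact hdy.le) hred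

end Chart

end Groth.Agent.Helper2.DeltaBC
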