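import Mathlib
import Groth.Prelude
import Groth.Agent.Lib.Helper2.Norm.BCIneq
import Groth.Agent.Lib.Helper2.Norm.BCSch
import Groth.Agent.Lib.Helper8.Nag5

set_option autoImplicit false
set_option backward.isDefEq.respectTransparency.types false
set_option synthInstance.maxHeartbeats 400000
set_option maxHeartbeats 4000000
set_option linter.style.haveILetI false
set_option linter.unusedSectionVars false
set_option linter.unusedVariables false

/-!
# The δ-invariant can only grow under field extensions: schemes (helper2)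
-/

universe u

namespace Groth.Agent.Helper2.DeltaBC

open CategoryTheory CategoryTheory.Limits AlgebraicGeometry TopologicalSpace Opposite IsLocalRing
open TensorProduct

/-- in a Noetherian ring, if the localization at a prime `p` is reduced, some element outside
`p` kills the nilradical -/
theorem exists_kill_nilradical (R : Type u) [CommRing R] [IsNoetherianRing R] (p : Ideal R)
    [p.IsPrime] (A : Type u) [CommRing A] [Algebra R A] [IsLocalization.AtPrime A p]
    [_root_.IsReduced A] : ∃ f : R, f ∉ p ∧ ∀ n ∈ nilradical R, f * n = 0 := by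
  classical
  obtain ⟨G, hG⟩ := (isNoetherianRing_iff_ideal_fg R).mp inferInstance (nilradical R)
  have hex : ∀ g : R, g ∈ nilradical R → ∃ s : R, s ∉ p ∧ s * g = 0 := by
    intro g hg
    have h1 : IsNilpotent (algebraMap R A g) := (mem_nilradical.mp hg).map _
    have h2 : algebraMap R A g = 0 := h1.eq_zero
    obtain ⟨⟨s, hs⟩, hsg⟩ := (IsLocalization.map_eq_zero_iff p.primeCompl A g).mp h2
    exact ⟨s, hs, hsg⟩
  choose! s hs hsg using hex
  refine ⟨∏ g ∈ G, s g, ?_, ?_⟩
  · have hGn : ∀ g ∈ G, g ∈ nilradical R := fun g hg => hG ▸ Ideal.subset_span hg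
    intro hmem
    obtain ⟨g, hgG, hgp⟩ := (Ideal.IsPrime.prod_mem_iff).mp hmem
    exact hs g (hGn g hgG) hgp
  · intro n hn
    rw [← hG] at hn
    refine Submodule.span_induction (p := fun n _ => (∏ g ∈ G, s g) * n = 0) ?_ ?_ ?_ ?_ hn
    · intro g hg
      have hgn : g ∈ nilradical R := hG ▸ Ideal.subset_span hg
      obtain ⟨c, hc⟩ := Finset.dvd_prod_of_mem s hg
      rw [hc, mul_comm (s g) c, mul_assoc, hsg g hgn, mul_zero]
    · exact mul_zero _
    · intro a b _ _ ha hb
      rw [mul_add, ha, hb, add_zero]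
    · intro a b _ hb
      rw [smul_eq_mul, mul_left_comm, hb, mul_zero]

/-- a reduced local ring of a locally Noetherian scheme has a reduced affine neighbourhood -/
theorem exists_reduced_affine (X : Scheme.{u}) [IsLocallyNoetherian X] (x : X)
    [_root_.IsReduced (X.presheaf.stalk x)] :
    ∃ U : X.Opens, IsAffineOpen U ∧ x ∈ U ∧ _root_.IsReduced Γ(X, U) := by
  obtain ⟨_, ⟨U₀, hU₀, rfl⟩, hxU₀, -⟩ :=
    X.isBasis_affineOpens.exists_subset_of_mem_open (Set.mem_univ x) isOpen_univ
  haveI : IsNoetherianRing Γ(X, U₀) := IsLocallyNoetherian.component_noetherian ⟨U₀, hU₀⟩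
  letI algRA : Algebra Γ(X, U₀) (X.presheaf.stalk x) :=
    TopCat.Presheaf.algebra_section_stalk X.presheaf ⟨x, hxU₀⟩
  haveI hloc : IsLocalization.AtPrime (X.presheaf.stalk x)
      (hU₀.primeIdealOf ⟨x, hxU₀⟩).asIdeal := hU₀.isLocalization_stalk ⟨x, hxU₀⟩
  obtain ⟨f, hfp, hfn⟩ := exists_kill_nilradical Γ(X, U₀) (hU₀.primeIdealOf ⟨x, hxU₀⟩).asIdeal
    (X.presheaf.stalk x)
  refine ⟨X.basicOpen f, hU₀.basicOpen f, ?_, ?_⟩
  · rw [Scheme.mem_basicOpen X f x hxU₀]
    exact (IsLocalization.AtPrime.isUnit_to_map_iff (X.presheaf.stalk x)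
      (hU₀.primeIdealOf ⟨x, hxU₀⟩).asIdeal f).mpr hfp
  · haveI := hU₀.isLocalization_basicOpen f
    constructor
    intro z hz
    obtain ⟨⟨r, m⟩, hrm⟩ := IsLocalization.surj (Submonoid.powers f) z
    simp only at hrm
    have h1 : IsNilpotent (algebraMap Γ(X, U₀) Γ(X, X.basicOpen f) r) := by
      rw [← hrm]
      exact Commute.isNilpotent_mul_right (Commute.all _ _) hz
    obtain ⟨n, hn⟩ := h1
    rw [← map_pow, ← map_zero (algebraMap Γ(X, U₀) Γ(X, X.basicOpen f))] at hn
    obtain ⟨⟨c, ⟨j, hj⟩⟩, hc⟩ := (IsLocalization.eq_iff_exists (Submonoid.powers f) _).mp hn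
    simp only at hc hj
    rw [mul_zero, ← hj] at hc
    -- f^j * r^n = 0
    have h2 : (f ^ j * r) ∈ nilradical Γ(X, U₀) := by
      rw [mem_nilradical]
      refine ⟨n + 1, ?_⟩
      have hring : (f ^ j * r) ^ (n + 1) = (f ^ j) ^ n * r * (f ^ j * r ^ n) := by ring
      rw [hring, hc, mul_zero]
    have h3 : f * (f ^ j * r) = 0 := hfn _ h2
    have h4 : algebraMap Γ(X, U₀) Γ(X, X.basicOpen f) r = 0 := by
      rw [IsLocalization.map_eq_zero_iff (Submonoid.powers f)]
      exact ⟨⟨f ^ (j + 1), ⟨j + 1, rfl⟩⟩, by simp only; rw [pow_succ, mul_comm (f ^ j) f, mul_assoc]; exact h3⟩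
    rw [h4] at hrm
    exact (IsLocalization.map_units Γ(X, X.basicOpen f) m).mul_left_eq_zero.mp hrm

attribute [local instance] Curv2.stalkAlgebra

/-- **the δ-invariant can only grow under a field extension at geometrically reduced points** -/
theorem main_le (k : Type u) [Field k] (X : Scheme.{u}) [X.Over (Spec (CommRingCat.of k))]
    [LocallyOfFiniteType (X ↘ (Spec (CommRingCat.of k)))] (K : Type u) [Field K] [Algebra k K]
    (y : Curv2.bc k X K) (hx : Curv2.IsGeomReducedAt k X (Curv2.bcFst k X K y)) :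
    Curv2.deltaInv (X.presheaf.stalk (Curv2.bcFst k X K y)) ≤
      Curv2.deltaInv ((Curv2.bc k X K).presheaf.stalk y) := by
  set x := Curv2.bcFst k X K y with hxdef
  obtain ⟨q, hq, ⟨eB⟩⟩ := Groth.Agent.S1560.exists_stalk_equiv_of_mem
    (X ↘ Spec (CommRingCat.of k)) x (Groth.Agent.S1560.specMap_stalkMap k X x) y
    (IsLocalRing.closedPoint _) (by rw [Scheme.fromSpecStalk_closedPoint])
  rw [deltaInv_eq_of_ringEquiv eB]
  haveI : IsLocallyNoetherian X :=
    LocallyOfFiniteType.isLocallyNoetherian (X ↘ Spec (CommRingCat.of k))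
  haveI : IsLocalHom (algebraMap (X.presheaf.stalk x) (Localization.AtPrime q.asIdeal)) := by
    refine ((IsLocalRing.local_hom_TFAE _).out 0 4).mpr ?_
    have h1 : Ideal.comap (algebraMap (X.presheaf.stalk x ⊗[k] K)
        (Localization.AtPrime q.asIdeal)) (maximalIdeal (Localization.AtPrime q.asIdeal)) =
        q.asIdeal := Localization.AtPrime.under_maximalIdeal
    rw [IsScalarTower.algebraMap_eq (X.presheaf.stalk x) (X.presheaf.stalk x ⊗[k] K)
      (Localization.AtPrime q.asIdeal), ← Ideal.comap_comap, h1]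
    exact congrArg PrimeSpectrum.asIdeal hq
  haveI : Module.Flat (X.presheaf.stalk x) (Localization.AtPrime q.asIdeal) :=
    Module.Flat.trans (X.presheaf.stalk x) (X.presheaf.stalk x ⊗[k] K)
      (Localization.AtPrime q.asIdeal)
  haveI hBred : _root_.IsReduced (Localization.AtPrime q.asIdeal) := by
    haveI : _root_.IsReduced ((Curv2.bc k X K).presheaf.stalk y) := hx K y rfl
    exact isReduced_of_injective eB.symm.toRingHom eB.symm.injective
  haveI hAred : _root_.IsReduced (X.presheaf.stalk x) := by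
    haveI : Module.FaithfullyFlat (X.presheaf.stalk x) (Localization.AtPrime q.asIdeal) :=
      Module.FaithfullyFlat.of_flat_of_isLocalHom
    exact isReduced_of_injective (algebraMap _ (Localization.AtPrime q.asIdeal))
      (FaithfulSMul.algebraMap_injective _ _)
  obtain ⟨U, hU, hxU, hUred⟩ := exists_reduced_affine X x
  haveI := hUred
  haveI : IsNoetherianRing Γ(X, U) := IsLocallyNoetherian.component_noetherian ⟨U, hU⟩
  letI algkR : Algebra k Γ(X, U) := secAlg k X U
  haveI hft : Algebra.FiniteType k Γ(X, U) := finiteType_sections k X U hU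
  have hNag := Groth.Agent.Lib.Helper4.Nagata3.isNagata_of_finiteType_field k Γ(X, U)
  haveI hfinR : Module.Finite Γ(X, U) (integralClosure Γ(X, U) (FractionRing Γ(X, U))) :=
    Groth.Agent.Helper8.Nag.finite_integralClosure_fractionRing Γ(X, U) hNag.2
  letI algRA : Algebra Γ(X, U) (X.presheaf.stalk x) :=
    TopCat.Presheaf.algebra_section_stalk X.presheaf ⟨x, hxU⟩
  haveI hloc : IsLocalization.AtPrime (X.presheaf.stalk x) (hU.primeIdealOf ⟨x, hxU⟩).asIdeal :=
    hU.isLocalization_stalk ⟨x, hxU⟩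
  haveI := finite_integralClosure_localization_of_isReduced Γ(X, U)
    (hU.primeIdealOf ⟨x, hxU⟩).asIdeal (X.presheaf.stalk x)
  exact deltaInv_le_of_flat (X.presheaf.stalk x) (Localization.AtPrime q.asIdeal)

end Groth.Agent.Helper2.DeltaBC
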