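import Mathlib
import Groth.Prelude
import Groth.Agent.Lib.Helper2.Norm.DeltaSch
import Groth.Agent.Lib.Helper1.NormGenus1
import Groth.Agent.Lib.Helper1.DegFin1
import Groth.Agent.Lib.Helper1.PushQc
import Groth.Agent.Lib.Helper1.QcAbel
import Groth.Agent.Lib.Helper8.Tate2

/-!
# The normalization of an integral Nagata scheme of dimension one (helper2)
-/

set_option autoImplicit false
set_option backward.isDefEq.respectTransparency.types false
set_option synthInstance.maxHeartbeats 400000
set_option maxHeartbeats 4000000
set_option linter.style.haveILetI false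
set_option linter.unusedSectionVars false
set_option linter.unusedVariables false

universe u

namespace Groth.Agent.Helper2.NormDelta

open CategoryTheory CategoryTheory.Limits AlgebraicGeometry TopologicalSpace Opposite IsLocalRing
open Groth.Agent.Lib.Helper4.NormalizationField1 Groth.Agent.Lib.Helper4.NormalizationField3
open Groth.Agent.Lib.Helper4.NormalizationField2
open Groth.Agent.Lib.Helper4.Japanese1 Groth.Agent.Lib.Helper4.Japanese2
open Groth.Agent.Helper1 Groth.Agent.Helper1.QcCech

section Mono

variable {X : Scheme.{u}}

/-- a morphism of modules which is injective on sections over affine opens is a monomorphism -/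
theorem mono_of_injective_on_affine {M N : X.Modules} (φ : M ⟶ N)
    (h : ∀ U : X.Opens, IsAffineOpen U → Function.Injective (φ.app U)) : Mono φ := by
  apply Preadditive.mono_of_cancel_zero
  intro Q g hg
  apply Scheme.Modules.hom_ext
  intro W
  ext t
  change g.app W t = 0
  apply TwistSec.eq_of_locally M
  intro x hx
  obtain ⟨_, ⟨U, hU, rfl⟩, hxU, hUW⟩ :=
    X.isBasis_affineOpens.exists_subset_of_mem_open hx W.isOpen
  refine ⟨U, hUW, hxU, ?_⟩
  rw [← QcExt.app_res, map_zero]
  apply h U hU
  rw [map_zero]
  have := congrArg (fun ψ => Scheme.Modules.Hom.app ψ U (QcCech.res Q hUW t)) hg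
  exact this

end Mono

section Main

variable (X : Scheme.{u}) [IsIntegral X]
  [QuasiCompact (X.fromSpecStalk (genericPoint X))]
  [QuasiSeparated (X.fromSpecStalk (genericPoint X))]

theorem isN2_of_isNagata (hN : ∀ U : X.affineOpens, CAlg.IsNagata Γ(X, (U : X.Opens)))
    (U : X.Opens) (hU : IsAffineOpen U) (hne : Nonempty U) :
    @CAlg.IsN2 Γ(X, U) _ (@IsIntegral.component_integral X _ U hne) := by
  haveI : IsDomain Γ(X, U) := IsIntegral.component_integral (X := X) (U := U)
  have h := (hN ⟨U, hU⟩).2 (⊥ : Ideal Γ(X, U))
  exact Groth.Agent.Helper8.Tate.isN2_of_ringEquiv (RingEquiv.quotientBot Γ(X, U)) h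

theorem main (hN : ∀ U : X.affineOpens, CAlg.IsNagata Γ(X, (U : X.Opens)))
    (hdim : topologicalKrullDim X = 1) :
    IsFinite (X.fromSpecStalk (genericPoint X)).fromNormalization ∧
      (∃ U : X.Opens, Dense ((U : Set X)) ∧
        IsIso ((X.fromSpecStalk (genericPoint X)).fromNormalization ∣_ U)) ∧
      Mono (ClSub.unitToPush (X.fromSpecStalk (genericPoint X)).fromNormalization) ∧
      (∀ x : X, Module.length (X.presheaf.stalk x)
          ((cokernel (ClSub.unitToPush
            (X.fromSpecStalk (genericPoint X)).fromNormalization)).presheaf.stalk x) =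
          Curv2.deltaInv (X.presheaf.stalk x)) ∧
      (∀ x : X, ¬ IsClosed ({x} : Set X) →
        Subsingleton ((cokernel (ClSub.unitToPush
          (X.fromSpecStalk (genericPoint X)).fromNormalization)).presheaf.stalk x)) := by
  obtain ⟨hint, hnorm, hgen, hbij⟩ := normalization_facts X
  haveI := hint
  have hfin : IsFinite (X.fromSpecStalk (genericPoint X)).fromNormalization :=
    Groth.Agent.Lib.Helper4.Japanese3.S9688_main X (fun U hU hne => isN2_of_isNagata X hN U hU hne)
  haveI := hfin
  set ν := (X.fromSpecStalk (genericPoint X)).fromNormalization with hν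
  set u := ClSub.unitToPush ν with hu
  obtain ⟨V, hVne, hViso⟩ := exists_open_isIso_of_finite_birational ν hgen hbij
  haveI := hViso
  have hηV : genericPoint X ∈ V :=
    ((genericPoint_spec X).mem_open_set_iff V.isOpen).mpr (by
      obtain ⟨x, hx⟩ := hVne; exact ⟨x, trivial, hx⟩)
  -- mono
  haveI hmono : Mono u := by
    apply mono_of_injective_on_affine
    intro U hU
    by_cases hne : (U : Set X).Nonempty
    · exact app_injective_of_birational ν hgen hbij U hU hne
    · have hUbot : U = ⊥ := by
        ext x
        simp only [Opens.coe_bot, Set.mem_empty_iff_false, iff_false]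
        exact fun hx => hne ⟨x, hx⟩
      haveI : Subsingleton Γ(X, U) := by
        rw [hUbot]; infer_instance
      exact Function.injective_of_subsingleton (α := Γ(X, U)) _
  -- quasi-coherence
  haveI : (Coh.structureModule X).IsQuasicoherent :=
    IdealModL.isQuasicoherent_structureModule
  haveI : (Coh.structureModule (X.fromSpecStalk (genericPoint X)).normalization).IsQuasicoherent :=
    IdealModL.isQuasicoherent_structureModule
  haveI : ((Scheme.Modules.pushforward ν).obj
      (Coh.structureModule (X.fromSpecStalk (genericPoint X)).normalization)).IsQuasicoherent :=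
    PushQc.isQuasicoherent_pushforward ν _
  haveI hqc : (cokernel u).IsQuasicoherent := QcAbel.isQuasicoherent_cokernel u
  refine ⟨hfin, ⟨V, V.isOpen.dense hVne, hViso⟩, hmono, ?_, ?_⟩
  · intro x
    obtain ⟨_, ⟨U, hU, rfl⟩, hxU, -⟩ :=
      X.isBasis_affineOpens.exists_subset_of_mem_open (Set.mem_univ x) isOpen_univ
    have hne : Nonempty U := ⟨⟨x, hxU⟩⟩
    have hN2 := isN2_of_isNagata X hN U hU hne
    haveI : IsDomain Γ(X, U) := IsIntegral.component_integral (X := X) (U := U)
    exact length_stalk_cokernel X hU ⟨x, hxU⟩
      (hN2 (FractionRing Γ(X, U)) inferInstance)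
  · intro x hx
    have hxη : x = genericPoint X := by
      by_contra hne
      exact hx (DegFin.isClosed_singleton_of_ne_genericPoint hdim.le x hne)
    rw [hxη]
    have happ : ∀ W : X.Opens, W ≤ V →
        Function.Bijective (fun s : Γ(Coh.structureModule X, W) => u.app W s) := by
      intro W hW
      haveI := NormGenus.isIso_app_of_isIso_restrict ν V W hW
      exact (ConcreteCategory.isIso_iff_bijective (ν.app W)).1 inferInstance
    have hst := NormGenus.stalk_bijective_of_app_bijective u V happ (genericPoint X) hηV
    have hcok : genericPoint X ∉ CohB1.support (cokernel u) :=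
      Dv.notMem_support_cokernel u _ hst.2
    by_contra hsub
    exact hcok hsub

end Main

end Groth.Agent.Helper2.NormDelta
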