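import Mathlib
import Groth.Prelude
import Groth.Agent.Lib.Helper2.Norm.GeomRegAlg
import Groth.Agent.Lib.Helper2.Norm.BCSch
import Groth.Agent.Lib.Helper3.GeoReg2
import Groth.Agent.Lib.Helper4.NormalizationField1
import Groth.Agent.Lib.Helper8.FlatReg14
import Groth.Agent.S1541

set_option autoImplicit false
set_option backward.isDefEq.respectTransparency.types false
set_option synthInstance.maxHeartbeats 400000
set_option maxHeartbeats 4000000
set_option linter.style.haveILetI false
set_option linter.unusedSectionVars false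
set_option linter.unusedVariables false

/-!
# Geometric regularity of the normalization in codimension one (helper2)
-/

universe u

namespace Groth.Agent.Helper2.GeomReg

open CategoryTheory CategoryTheory.Limits AlgebraicGeometry TopologicalSpace Opposite IsLocalRing
open TensorProduct

/-- transfer of reducedness from the residue field (with `resMap` algebra) to the quotient of the
local ring by its maximal ideal (with the quotient algebra) -/
theorem isReduced_quotient_of_residueField (k : Type u) [Field k] (Y : Scheme.{u})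
    [Y.Over (Spec (CommRingCat.of k))] (x' : Y) (K : Type u) [Field K] [Algebra k K]
    (h : letI : Algebra k (Y.residueField x') := (Curv2.resMap k Y x').toAlgebra
      _root_.IsReduced ((Y.residueField x') ⊗[k] K)) :
    letI := Curv2.stalkAlgebra k Y x'
    _root_.IsReduced ((Y.presheaf.stalk x' ⧸ maximalIdeal (Y.presheaf.stalk x')) ⊗[k] K) := by
  letI algD := Curv2.stalkAlgebra k Y x'
  letI algRes : Algebra k (Y.residueField x') := (Curv2.resMap k Y x').toAlgebra
  let e0 : (Y.presheaf.stalk x' ⧸ maximalIdeal (Y.presheaf.stalk x')) →ₐ[k] (Y.residueField x') :=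
    { RingHom.id (Y.presheaf.stalk x' ⧸ maximalIdeal (Y.presheaf.stalk x')) with
      commutes' := fun c => rfl }
  have he0 : Function.Injective e0 := fun a b hab => hab
  let f := Algebra.TensorProduct.map e0 (AlgHom.id k K)
  have hf : Function.Injective f :=
    Module.Flat.rTensor_preserves_injective_linearMap (M := K) e0.toLinearMap he0
  exact isReduced_of_injective f.toRingHom hf

section Chart

variable (k : Type u) [Field k] (X : Scheme.{u}) [X.Over (Spec (CommRingCat.of k))]
  [IsIntegral X]
  [QuasiCompact (X.fromSpecStalk (genericPoint X))]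
  [QuasiSeparated (X.fromSpecStalk (genericPoint X))]

attribute [local instance] Curv2.stalkAlgebra

/-- the local rings of the normalization: Noetherian, of dimension at most that of the image
point, and containing the local ring of the image point -/
theorem stalk_facts [LocallyOfFiniteType (X ↘ Spec (CommRingCat.of k))]
    (x' : ↥((X.fromSpecStalk (genericPoint X)).normalization)) :
    IsNoetherianRing ((X.fromSpecStalk (genericPoint X)).normalization.presheaf.stalk x') ∧
      ringKrullDim ((X.fromSpecStalk (genericPoint X)).normalization.presheaf.stalk x') ≤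
        ringKrullDim (X.presheaf.stalk ((X.fromSpecStalk (genericPoint X)).fromNormalization x')) ∧
      Function.Injective ((X.fromSpecStalk (genericPoint X)).fromNormalization.stalkMap x').hom := by
  set ν := (X.fromSpecStalk (genericPoint X)).fromNormalization with hν
  set x := ν x' with hx
  obtain ⟨_, ⟨U, hU, rfl⟩, hxU, -⟩ :=
    X.isBasis_affineOpens.exists_subset_of_mem_open (Set.mem_univ x) isOpen_univ
  haveI hne : Nonempty U := ⟨⟨x, hxU⟩⟩
  haveI : IsDomain Γ(X, U) := IsIntegral.component_integral (X := X) (U := U)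
  letI algkR : Algebra k Γ(X, U) := Groth.Agent.Helper2.DeltaBC.secAlg k X U
  haveI hft : Algebra.FiniteType k Γ(X, U) := Groth.Agent.Helper2.DeltaBC.finiteType_sections k X U hU
  haveI hNoeR : IsNoetherianRing Γ(X, U) := Algebra.FiniteType.isNoetherianRing k _
  have hNag := Groth.Agent.Lib.Helper4.Nagata3.isNagata_of_finiteType_field k Γ(X, U)
  haveI hfinR : Module.Finite Γ(X, U) (integralClosure Γ(X, U) (FractionRing Γ(X, U))) := by
    have h := hNag.2 (⊥ : Ideal Γ(X, U))
    have hN2 := Groth.Agent.Helper8.Tate.isN2_of_ringEquiv (RingEquiv.quotientBot Γ(X, U)) h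
    exact hN2 (FractionRing Γ(X, U)) inferInstance
  letI algRR' : Algebra Γ(X, U) Γ((X.fromSpecStalk (genericPoint X)).normalization, ν ⁻¹ᵁ U) :=
    (ν.app U).hom.toAlgebra
  obtain ⟨e⟩ := Groth.Agent.Helper2.NormDelta.exists_algEquiv_normalization X U hU
  haveI hfinR' : Module.Finite Γ(X, U)
      Γ((X.fromSpecStalk (genericPoint X)).normalization, ν ⁻¹ᵁ U) :=
    Module.Finite.equiv e.symm.toLinearEquiv
  haveI hNoeR' : IsNoetherianRing Γ((X.fromSpecStalk (genericPoint X)).normalization, ν ⁻¹ᵁ U) :=
    IsNoetherianRing.of_finite Γ(X, U) _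
  haveI hintR' : Algebra.IsIntegral Γ(X, U)
      Γ((X.fromSpecStalk (genericPoint X)).normalization, ν ⁻¹ᵁ U) :=
    Algebra.IsIntegral.of_finite Γ(X, U) _
  have hinjRR' : Function.Injective
      (algebraMap Γ(X, U) Γ((X.fromSpecStalk (genericPoint X)).normalization, ν ⁻¹ᵁ U)) := by
    intro a b hab
    have h1 := congrArg e hab
    rw [e.commutes, e.commutes] at h1
    have h2 := congrArg (Subtype.val) h1
    exact IsFractionRing.injective Γ(X, U) (FractionRing Γ(X, U)) h2
  have hV : IsAffineOpen (ν ⁻¹ᵁ U) := hU.preimage ν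
  have hx'V : x' ∈ ν ⁻¹ᵁ U := hxU
  letI algRA : Algebra Γ(X, U) (X.presheaf.stalk x) :=
    TopCat.Presheaf.algebra_section_stalk X.presheaf ⟨x, hxU⟩
  haveI hlocA : IsLocalization.AtPrime (X.presheaf.stalk x) (hU.primeIdealOf ⟨x, hxU⟩).asIdeal :=
    hU.isLocalization_stalk ⟨x, hxU⟩
  letI algR'D : Algebra Γ((X.fromSpecStalk (genericPoint X)).normalization, ν ⁻¹ᵁ U)
      ((X.fromSpecStalk (genericPoint X)).normalization.presheaf.stalk x') :=
    TopCat.Presheaf.algebra_section_stalk
      (X.fromSpecStalk (genericPoint X)).normalization.presheaf ⟨x', hx'V⟩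
  haveI hlocD : IsLocalization.AtPrime
      ((X.fromSpecStalk (genericPoint X)).normalization.presheaf.stalk x')
      (hV.primeIdealOf ⟨x', hx'V⟩).asIdeal :=
    hV.isLocalization_stalk ⟨x', hx'V⟩
  have hcomap : (hV.primeIdealOf ⟨x', hx'V⟩).asIdeal.comap
      (algebraMap Γ(X, U) Γ((X.fromSpecStalk (genericPoint X)).normalization, ν ⁻¹ᵁ U)) =
      (hU.primeIdealOf ⟨x, hxU⟩).asIdeal := by
    have h1 := IsAffineOpen.comap_primeIdealOf_appLE (f := ν) U hU (ν ⁻¹ᵁ U) hV le_rfl hx'V
    have h2 := congrArg PrimeSpectrum.asIdeal h1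
    rw [← h2]
    show _ = (hV.primeIdealOf ⟨x', hx'V⟩).asIdeal.comap (ν.appLE U (ν ⁻¹ᵁ U) le_rfl).hom
    rw [Scheme.Hom.appLE_eq_app]
    rfl
  refine ⟨IsLocalization.isNoetherianRing (hV.primeIdealOf ⟨x', hx'V⟩).asIdeal.primeCompl _
    inferInstance, ?_, ?_⟩
  · rw [IsLocalization.AtPrime.ringKrullDim_eq_height (hV.primeIdealOf ⟨x', hx'V⟩).asIdeal
        ((X.fromSpecStalk (genericPoint X)).normalization.presheaf.stalk x'),
      IsLocalization.AtPrime.ringKrullDim_eq_height (hU.primeIdealOf ⟨x, hxU⟩).asIdeal
        (X.presheaf.stalk x), ← hcomap]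
    exact_mod_cast height_le_height_comap_of_isIntegral Γ(X, U)
      Γ((X.fromSpecStalk (genericPoint X)).normalization, ν ⁻¹ᵁ U)
      (hV.primeIdealOf ⟨x', hx'V⟩).asIdeal
  · obtain ⟨hint, -⟩ := Groth.Agent.Lib.Helper4.NormalizationField1.S2351_main X
    haveI : IsIntegral ((X.fromSpecStalk (genericPoint X)).normalization) := hint
    refine hU.stalkMap_injective ν x' hxU ?_
    intro g hg
    rw [Scheme.Hom.germ_stalkMap_apply] at hg
    have h0 : (ν.app U).hom g = 0 := by
      apply germ_injective_of_isIntegral
        ((X.fromSpecStalk (genericPoint X)).normalization) x' hx'V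
      rw [map_zero]
      exact hg
    have h1 : g = 0 := hinjRR' (h0.trans (map_zero _).symm)
    rw [h1, map_zero]

end Chart

end Groth.Agent.Helper2.GeomReg
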