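import Mathlib
import Groth.Prelude
import Groth.Agent.Lib.Helper2.Norm.GeomRegSch

set_option autoImplicit false
set_option backward.isDefEq.respectTransparency.types false
set_option synthInstance.maxHeartbeats 400000
set_option maxHeartbeats 4000000
set_option linter.style.haveILetI false
set_option linter.unusedSectionVars false
set_option linter.unusedVariables false

/-!
# Geometric regularity of the normalization in codimension one: main statement (helper2)
-/

universe u

namespace Groth.Agent.Helper2.GeomReg

open CategoryTheory CategoryTheory.Limits AlgebraicGeometry TopologicalSpace Opposite IsLocalRing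
open TensorProduct

section Main

variable (k : Type u) [Field k] (X : Scheme.{u}) [X.Over (Spec (CommRingCat.of k))]
  [IsIntegral X]
  [QuasiCompact (X.fromSpecStalk (genericPoint X))]
  [QuasiSeparated (X.fromSpecStalk (genericPoint X))]

attribute [local instance] Curv2.stalkAlgebra

theorem main_at [LocallyOfFiniteType (X ↘ Spec (CommRingCat.of k))]
    (x' : ↥((X.fromSpecStalk (genericPoint X)).normalization))
    (hdim : ringKrullDim (X.presheaf.stalk
      ((X.fromSpecStalk (genericPoint X)).fromNormalization x')) ≤ 1)
    (hsep : letI : ((X.fromSpecStalk (genericPoint X)).normalization).Over (Spec (CommRingCat.of k)) :=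
        ⟨(X.fromSpecStalk (genericPoint X)).fromNormalization ≫ (X ↘ (Spec (CommRingCat.of k)))⟩
      GeometricallyReduced (Spec.map (CommRingCat.ofHom
          (Curv2.resMap k ((X.fromSpecStalk (genericPoint X)).normalization) x')))) :
    letI : ((X.fromSpecStalk (genericPoint X)).normalization).Over (Spec (CommRingCat.of k)) :=
        ⟨(X.fromSpecStalk (genericPoint X)).fromNormalization ≫ (X ↘ (Spec (CommRingCat.of k)))⟩
    Curv2.IsGeomRegularAt k ((X.fromSpecStalk (genericPoint X)).normalization) x' ∧
      Algebra.IsGeometricallyReduced k (X.presheaf.stalk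
        ((X.fromSpecStalk (genericPoint X)).fromNormalization x')) := by
  letI instO : ((X.fromSpecStalk (genericPoint X)).normalization).Over (Spec (CommRingCat.of k)) :=
    ⟨(X.fromSpecStalk (genericPoint X)).fromNormalization ≫ (X ↘ (Spec (CommRingCat.of k)))⟩
  obtain ⟨hNoe, hdimD, hinj⟩ := stalk_facts k X x'
  obtain ⟨hint, hnormal, -⟩ := Groth.Agent.Lib.Helper4.NormalizationField1.S2351_main X
  haveI := hNoe
  haveI : IsDomain ((X.fromSpecStalk (genericPoint X)).normalization.presheaf.stalk x') :=
    (hnormal x').1
  haveI : IsIntegrallyClosed ((X.fromSpecStalk (genericPoint X)).normalization.presheaf.stalk x') :=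
    (hnormal x').2
  haveI hreg : IsRegularLocalRing
      ((X.fromSpecStalk (genericPoint X)).normalization.presheaf.stalk x') :=
    Groth.Agent.Helper8.FlatReg.isRegularLocalRing_of_hasRk_of_dim_le 1
      (Groth.Agent.Helper8.FlatReg.hasRk_one_of_normal_domain _)
      (by exact_mod_cast hdimD.trans hdim)
  have hGR : CAlg.IsGeometricallyRegular k
      ((X.fromSpecStalk (genericPoint X)).normalization.presheaf.stalk x') :=
    isGeometricallyRegular_of_residue k _ (fun K _ _ _ =>
      isReduced_quotient_of_residueField k ((X.fromSpecStalk (genericPoint X)).normalization) x' K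
        (Groth.Agent.Helper2.DeltaBC.isReduced_residueField_tensor k
          ((X.fromSpecStalk (genericPoint X)).normalization) x' K hsep))
  refine ⟨(Groth.Agent.Helper3.GeoReg.isGeomRegularAt_iff_isGeometricallyRegular k
    ((X.fromSpecStalk (genericPoint X)).normalization) x').mpr hGR, ?_⟩
  haveI := isGeometricallyReduced_of_isGeometricallyRegular k _ hGR
  let f : X.presheaf.stalk ((X.fromSpecStalk (genericPoint X)).fromNormalization x') →ₐ[k]
      (X.fromSpecStalk (genericPoint X)).normalization.presheaf.stalk x' :=
    { ((X.fromSpecStalk (genericPoint X)).fromNormalization.stalkMap x').hom with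
      commutes' := fun c => by
        set a := Coh.toGlobal (X ↘ Spec (CommRingCat.of k)) c with ha
        show ((X.fromSpecStalk (genericPoint X)).fromNormalization.stalkMap x').hom
            ((X.presheaf.germ ⊤ _ trivial).hom a) =
          ((X.fromSpecStalk (genericPoint X)).normalization.presheaf.germ ⊤ x' trivial).hom
            (((X.fromSpecStalk (genericPoint X)).fromNormalization.appTop).hom a)
        exact Scheme.Hom.germ_stalkMap_apply
          (X.fromSpecStalk (genericPoint X)).fromNormalization ⊤ x' trivial a }
  exact Algebra.IsGeometricallyReduced.of_injective f hinj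

/-- **S7617** -/
theorem main [LocallyOfFiniteType (X ↘ (Spec (CommRingCat.of k)))]
    (x : ↥X) (hdim : ringKrullDim ↥(X.presheaf.stalk x) = 1)
    (hsep : letI : (Curv2.normalization X).Over (Spec (CommRingCat.of k)) :=
        ⟨Curv2.normalizationι X ≫ (X ↘ (Spec (CommRingCat.of k)))⟩
      ∀ x' : ↥(Curv2.normalization X), Curv2.normalizationι X x' = x →
        GeometricallyReduced (Spec.map (CommRingCat.ofHom
          (Curv2.resMap k (Curv2.normalization X) x')))) :
    Curv2.IsGeomReducedAt k X x ∧
      letI : (Curv2.normalization X).Over (Spec (CommRingCat.of k)) :=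
        ⟨Curv2.normalizationι X ≫ (X ↘ (Spec (CommRingCat.of k)))⟩
      ∀ x' : ↥(Curv2.normalization X), Curv2.normalizationι X x' = x →
        Curv2.IsGeomRegularAt k (Curv2.normalization X) x' := by
  constructor
  · rw [Groth.Agent.S1541.result]
    obtain ⟨-, -, hsurj, -⟩ := Groth.Agent.Lib.Helper4.NormalizationField1.S2351_main X
    obtain ⟨x', hx'⟩ := hsurj.surj x
    subst hx'
    exact (main_at k X x' hdim.le (hsep x' rfl)).2
  · intro x' hx'
    subst hx'
    exact (main_at k X x' hdim.le (hsep x' rfl)).1

end Main

end Groth.Agent.Helper2.GeomReg
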