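import Mathlib
import Groth.Agent.Lib.Helper2.Norm.SmoothField
import Groth.Agent.Lib.Helper6.Normal.Scheme

set_option autoImplicit false
set_option backward.isDefEq.respectTransparency.types false
set_option synthInstance.maxHeartbeats 400000
set_option maxHeartbeats 4000000
set_option linter.style.haveILetI false
set_option linter.unusedSectionVars false
set_option linter.unusedVariables false

universe u

open CategoryTheory CategoryTheory.Limits AlgebraicGeometry TopologicalSpace Opposite

namespace Groth.Agent.Helper2.NormField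

theorem flat_surjective_specMap_field (K Ω : Type u) [Field K] [Field Ω] [Algebra K Ω] :
    Flat (Spec.map (CommRingCat.ofHom (algebraMap K Ω))) ∧
      Surjective (Spec.map (CommRingCat.ofHom (algebraMap K Ω))) := by
  constructor
  · rw [HasRingHomProperty.Spec_iff (P := @Flat)]
    exact RingHom.flat_algebraMap_iff.mpr inferInstance
  · constructor
    intro x
    exact ⟨IsLocalRing.closedPoint Ω, Subsingleton.elim (α := ↥(Spec (CommRingCat.of K))) _ _⟩

theorem main (K : Type u) [Field K] (X : Scheme.{u})
    [X.Over (Spec (CommRingCat.of K))] [IsIntegral X]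
    [LocallyOfFiniteType (X ↘ (Spec (CommRingCat.of K)))]
    [QuasiCompact (X.fromSpecStalk (genericPoint X))] [QuasiSeparated (X.fromSpecStalk (genericPoint X))]
    (hsm : Smooth (Curv2.normalizationι X ≫ (X ↘ (Spec (CommRingCat.of K)))))
    (Ω : Type u) [Field Ω] [Algebra K Ω]
    [IsIntegral ((Curv2.bc K X Ω).nilradical).subscheme]
    [QuasiCompact ((((Curv2.bc K X Ω).nilradical).subscheme).fromSpecStalk (genericPoint ((Curv2.bc K X Ω).nilradical).subscheme))]
    [QuasiSeparated ((((Curv2.bc K X Ω).nilradical).subscheme).fromSpecStalk (genericPoint ((Curv2.bc K X Ω).nilradical).subscheme))] :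
    ∃ e : Limits.pullback (Curv2.normalizationι X ≫ (X ↘ (Spec (CommRingCat.of K))))
          (Spec.map (CommRingCat.ofHom (algebraMap K Ω))) ≅
        Curv2.normalization ((Curv2.bc K X Ω).nilradical).subscheme,
      e.hom ≫ Curv2.normalizationι ((Curv2.bc K X Ω).nilradical).subscheme ≫ ((Curv2.bc K X Ω).nilradical).subschemeι =
        Limits.pullback.map (Curv2.normalizationι X ≫ (X ↘ (Spec (CommRingCat.of K))))
          (Spec.map (CommRingCat.ofHom (algebraMap K Ω))) (X ↘ (Spec (CommRingCat.of K)))
          (Spec.map (CommRingCat.ofHom (algebraMap K Ω))) (Curv2.normalizationι X) (𝟙 _) (𝟙 _)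
          (Category.comp_id _) ((Category.comp_id _).trans (Category.id_comp _).symm) := by
  obtain ⟨hfin, -, ⟨V, hVne, hViso⟩, hYint, hYn⟩ :=
    Groth.Agent.Lib.Helper4.Japanese2.S1585_main K X
  obtain ⟨hflat, hsurj⟩ := flat_surjective_specMap_field K Ω
  haveI := hsm
  haveI := hfin
  haveI := hYint
  have hP : Pi1.IsNormalScheme (Limits.pullback (Curv2.normalizationι X ≫ (X ↘ (Spec (CommRingCat.of K))))
      (Spec.map (CommRingCat.ofHom (algebraMap K Ω)))) :=
    Groth.Agent.Lib.Helper6.Normal.isNormalScheme_of_smooth
      (pullback.snd (Curv2.normalizationι X ≫ (X ↘ (Spec (CommRingCat.of K))))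
        (Spec.map (CommRingCat.ofHom (algebraMap K Ω))))
      (Groth.Agent.Helper2.NormSmooth.isNormalScheme_Spec_of_isField (CommRingCat.of Ω)
        (Field.toIsField Ω))
  have hpb : IsPullback
      (Limits.pullback.map (Curv2.normalizationι X ≫ (X ↘ (Spec (CommRingCat.of K))))
          (Spec.map (CommRingCat.ofHom (algebraMap K Ω))) (X ↘ (Spec (CommRingCat.of K)))
          (Spec.map (CommRingCat.ofHom (algebraMap K Ω))) (Curv2.normalizationι X) (𝟙 _) (𝟙 _)
          (Category.comp_id _) ((Category.comp_id _).trans (Category.id_comp _).symm))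
      (pullback.fst (Curv2.normalizationι X ≫ (X ↘ (Spec (CommRingCat.of K))))
        (Spec.map (CommRingCat.ofHom (algebraMap K Ω))))
      (pullback.fst (X ↘ (Spec (CommRingCat.of K))) (Spec.map (CommRingCat.ofHom (algebraMap K Ω))))
      (Curv2.normalizationι X) := by
    refine IsPullback.of_right ?_ ?_
      (IsPullback.of_hasPullback (X ↘ (Spec (CommRingCat.of K)))
        (Spec.map (CommRingCat.ofHom (algebraMap K Ω)))).flip
    · have h1 : Limits.pullback.map (Curv2.normalizationι X ≫ (X ↘ (Spec (CommRingCat.of K))))
          (Spec.map (CommRingCat.ofHom (algebraMap K Ω))) (X ↘ (Spec (CommRingCat.of K)))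
          (Spec.map (CommRingCat.ofHom (algebraMap K Ω))) (Curv2.normalizationι X) (𝟙 _) (𝟙 _)
          (Category.comp_id _) ((Category.comp_id _).trans (Category.id_comp _).symm) ≫
          pullback.snd (X ↘ (Spec (CommRingCat.of K)))
            (Spec.map (CommRingCat.ofHom (algebraMap K Ω))) =
          pullback.snd (Curv2.normalizationι X ≫ (X ↘ (Spec (CommRingCat.of K))))
            (Spec.map (CommRingCat.ofHom (algebraMap K Ω))) :=
        (pullback.lift_snd _ _ _).trans (Category.comp_id _)
      rw [h1]
      exact (IsPullback.of_hasPullback _ _).flip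
    · exact pullback.lift_fst _ _ _
  haveI : Flat (pullback.fst (Curv2.normalizationι X ≫ (X ↘ (Spec (CommRingCat.of K))))
        (Spec.map (CommRingCat.ofHom (algebraMap K Ω)))) :=
    MorphismProperty.pullback_fst (P := @Flat) _ _ hflat
  haveI : Surjective (pullback.fst (X ↘ (Spec (CommRingCat.of K)))
      (Spec.map (CommRingCat.ofHom (algebraMap K Ω)))) :=
    MorphismProperty.pullback_fst (P := @Surjective) _ _ hsurj
  exact core (Curv2.normalizationι X) _ _ _ hpb V hVne hViso hP

end Groth.Agent.Helper2.NormField
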