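import Mathlib
import Groth.Agent.Lib.Helper2.Norm.SmoothFieldMain
import Groth.Agent.Lib.Helper7.GeomConn.SmoothH0

set_option autoImplicit false
set_option backward.isDefEq.respectTransparency.types false
set_option synthInstance.maxHeartbeats 400000
set_option maxHeartbeats 4000000
set_option linter.style.haveILetI false
set_option linter.unusedSectionVars false
set_option linter.unusedVariables false

universe u

open CategoryTheory CategoryTheory.Limits AlgebraicGeometry TopologicalSpace Opposite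

namespace Groth.Agent.Helper2.NormField

/-- the square comparing the base changes of `ν ≫ s` and `s` is cartesian -/
theorem isPullback_map {Y X S T : Scheme.{u}} (ν : Y ⟶ X) (s : X ⟶ S) (t : T ⟶ S) :
    IsPullback
      (pullback.map (ν ≫ s) t s t ν (𝟙 _) (𝟙 _) (Category.comp_id _)
        ((Category.comp_id _).trans (Category.id_comp _).symm))
      (pullback.fst (ν ≫ s) t) (pullback.fst s t) ν := by
  refine IsPullback.of_right ?_ ?_ (IsPullback.of_hasPullback s t).flip
  · have h1 : pullback.map (ν ≫ s) t s t ν (𝟙 _) (𝟙 _) (Category.comp_id _)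
        ((Category.comp_id _).trans (Category.id_comp _).symm) ≫ pullback.snd s t =
        pullback.snd (ν ≫ s) t :=
      (pullback.lift_snd _ _ _).trans (Category.comp_id _)
    rw [h1]
    exact (IsPullback.of_hasPullback _ _).flip
  · exact pullback.lift_fst _ _ _

/-- irreducibility of the base change of a birational morphism -/
theorem irreducibleSpace_of_isPullback {Y X X' P : Scheme.{u}} [IrreducibleSpace Y]
    [IrreducibleSpace X'] (ν : Y ⟶ X) (q : X' ⟶ X)
    (b : P ⟶ X') (pY : P ⟶ Y) (hpb : IsPullback b pY q ν)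
    (V : X.Opens) (hV : (V : Set X).Nonempty) (hiso : IsIso (ν ∣_ V))
    [Flat pY] [Surjective q] : IrreducibleSpace P := by
  have hisoB : IsIso (b ∣_ (q ⁻¹ᵁ V)) := isIso_restrict_of_isPullback ν q b pY hpb V
  have hne : ((q ⁻¹ᵁ V : X'.Opens) : Set ↥X').Nonempty := by
    obtain ⟨v, hv⟩ := hV
    obtain ⟨x', rfl⟩ := q.surjective v
    exact ⟨x', hv⟩
  have hpre : (b ⁻¹ᵁ (q ⁻¹ᵁ V) : P.Opens) = pY ⁻¹ᵁ (ν ⁻¹ᵁ V) := by
    rw [← Scheme.Hom.comp_preimage, ← Scheme.Hom.comp_preimage, hpb.w]
  have hνV : genericPoint Y ∈ ν ⁻¹ᵁ V := by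
    refine ((genericPoint_spec Y).mem_open_set_iff (ν ⁻¹ᵁ V).isOpen).mpr ?_
    obtain ⟨v, hv⟩ := hV
    let y : (ν ⁻¹ᵁ V).toScheme := (inv (ν ∣_ V)) ⟨v, hv⟩
    exact ⟨y.1, Set.mem_inter (Set.mem_univ _) y.2⟩
  have hdense' : Dense ((b ⁻¹ᵁ (q ⁻¹ᵁ V) : P.Opens) : Set P) := by
    rw [hpre]
    intro z
    have hgz : genericPoint Y ⤳ pY z := genericPoint_specializes _
    obtain ⟨z', hz', hz'η⟩ := (Flat.generalizingMap pY) hgz
    have hmem : z' ∈ ((pY ⁻¹ᵁ (ν ⁻¹ᵁ V) : P.Opens) : Set P) := by
      show pY z' ∈ ν ⁻¹ᵁ V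
      rw [hz'η]; exact hνV
    exact closure_mono (Set.singleton_subset_iff.mpr hmem) (specializes_iff_mem_closure.mp hz')
  -- the open `q⁻¹V` is irreducible
  have hirrV : IsIrreducible ((q ⁻¹ᵁ V : X'.Opens) : Set ↥X') :=
    ⟨hne, (IrreducibleSpace.isIrreducible_univ X').isPreirreducible.open_subset
      (q ⁻¹ᵁ V).isOpen (Set.subset_univ _)⟩
  haveI : IrreducibleSpace (q ⁻¹ᵁ V : X'.Opens) := Subtype.irreducibleSpace hirrV
  let φ : (q ⁻¹ᵁ V).toScheme ⟶ P := inv (b ∣_ (q ⁻¹ᵁ V)) ≫ (b ⁻¹ᵁ (q ⁻¹ᵁ V)).ι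
  have hrange : Set.range φ = ((b ⁻¹ᵁ (q ⁻¹ᵁ V) : P.Opens) : Set P) := by
    ext y
    constructor
    · rintro ⟨u, rfl⟩
      exact ((inv (b ∣_ (q ⁻¹ᵁ V))) u).2
    · intro hy
      let y' : (b ⁻¹ᵁ (q ⁻¹ᵁ V)).toScheme := ⟨y, hy⟩
      have h1 : (inv (b ∣_ (q ⁻¹ᵁ V))) ((b ∣_ (q ⁻¹ᵁ V)) y') = y' := by
        rw [← Scheme.Hom.comp_apply, IsIso.hom_inv_id]; rfl
      refine ⟨(b ∣_ (q ⁻¹ᵁ V)) y', ?_⟩
      show (b ⁻¹ᵁ (q ⁻¹ᵁ V)).ι ((inv (b ∣_ (q ⁻¹ᵁ V))) ((b ∣_ (q ⁻¹ᵁ V)) y')) = y
      rw [h1]; rfl
  have hirr : IsIrreducible (Set.range φ) := by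
    rw [← Set.image_univ]
    exact (IrreducibleSpace.isIrreducible_univ (q ⁻¹ᵁ V).toScheme).image φ
      φ.continuous.continuousOn
  rw [hrange] at hirr
  have := hirr.closure
  rw [hdense'.closure_eq] at this
  exact (irreducibleSpace_def P).mpr this

/-- composing with a surjective closed immersion preserves geometric irreducibility -/
theorem geometricallyIrreducible_comp_closedImmersion {W X S : Scheme.{u}} (ι : W ⟶ X)
    [IsClosedImmersion ι] [Surjective ι] (g : X ⟶ S) [GeometricallyIrreducible g] :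
    GeometricallyIrreducible (ι ≫ g) := by
  refine ⟨geometrically_iff_of_isClosedUnderIsomorphisms.mpr fun K _ x ↦ ?_⟩
  rw [← (pullbackRightPullbackFstIso g x ι).hom.homeomorph.irreducibleSpace_iff]
  haveI : IrreducibleSpace ↥(pullback g x) :=
    pullback_of_geometrically (P := (IrreducibleSpace ·))
      GeometricallyIrreducible.geometrically_irreducibleSpace K x
  have hemb : Topology.IsEmbedding (pullback.snd ι (pullback.fst g x)) :=
    (pullback.snd ι (pullback.fst g x)).isEmbedding
  have hsurj : Function.Surjective (pullback.snd ι (pullback.fst g x)) :=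
    (pullback.snd ι (pullback.fst g x)).surjective
  exact (hemb.toHomeomorphOfSurjective hsurj).irreducibleSpace_iff.mpr inferInstance

/-- geometric irreducibility passes to a birational modification with flat-generalizing base
changes: abstract form. -/
theorem geometricallyIrreducible_comp_birational {K : Type u} [Field K] {N W : Scheme.{u}}
    [IrreducibleSpace N] (ν : N ⟶ W) (g : W ⟶ Spec (CommRingCat.of K))
    [GeometricallyIrreducible g]
    (V : W.Opens) (hV : (V : Set W).Nonempty) (hiso : IsIso (ν ∣_ V)) :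
    GeometricallyIrreducible (ν ≫ g) := by
  refine ⟨geometrically_iff_of_commRing_of_isClosedUnderIsomorphisms.mpr fun L _ _ ↦ ?_⟩
  obtain ⟨hflat, hsurj⟩ := flat_surjective_specMap_field K L
  haveI : IrreducibleSpace ↥(pullback g (Spec.map (CommRingCat.ofHom (algebraMap K L)))) :=
    pullback_of_geometrically (P := (IrreducibleSpace ·))
      GeometricallyIrreducible.geometrically_irreducibleSpace L _
  haveI : Flat (pullback.fst (ν ≫ g) (Spec.map (CommRingCat.ofHom (algebraMap K L)))) :=
    MorphismProperty.pullback_fst (P := @Flat) _ _ hflat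
  haveI : Surjective (pullback.fst g (Spec.map (CommRingCat.ofHom (algebraMap K L)))) :=
    MorphismProperty.pullback_fst (P := @Surjective) _ _ hsurj
  exact irreducibleSpace_of_isPullback ν _ _ _
    (isPullback_map ν g (Spec.map (CommRingCat.ofHom (algebraMap K L)))) V hV hiso

theorem geometricallyConnected_of_geometricallyIrreducible {X Y : Scheme.{u}} (f : X ⟶ Y)
    [GeometricallyIrreducible f] : GeometricallyConnected f := by
  refine ⟨fun K _ y Z fst snd h => ?_⟩
  haveI : IrreducibleSpace Z :=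
    GeometricallyIrreducible.geometrically_irreducibleSpace (f := f) y fst snd h
  infer_instance

theorem mainH0 (k : Type u) [Field k] (X : Scheme.{u})
    [X.Over (Spec (CommRingCat.of k))] [IsIntegral X] [IsProper (X ↘ (Spec (CommRingCat.of k)))]
    [GeometricallyIrreducible (X ↘ (Spec (CommRingCat.of k)))]
    (K : Type u) [Field K] [Algebra k K] [IsIntegral ((Curv2.bc k X K).nilradical).subscheme]
    [QuasiCompact ((((Curv2.bc k X K).nilradical).subscheme).fromSpecStalk (genericPoint ((Curv2.bc k X K).nilradical).subscheme))]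
    [QuasiSeparated ((((Curv2.bc k X K).nilradical).subscheme).fromSpecStalk (genericPoint ((Curv2.bc k X K).nilradical).subscheme))]
    (hsm : Smooth (Curv2.normalizationι ((Curv2.bc k X K).nilradical).subscheme ≫ ((Curv2.bc k X K).nilradical).subschemeι ≫ Curv2.bcSnd k X K)) :
    letI : (Curv2.normalization ((Curv2.bc k X K).nilradical).subscheme).Over (Spec (CommRingCat.of K)) := ⟨(Curv2.normalizationι ((Curv2.bc k X K).nilradical).subscheme ≫ ((Curv2.bc k X K).nilradical).subschemeι ≫ Curv2.bcSnd k X K)⟩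
    Module.finrank K (Coh.HH (Curv2.normalization ((Curv2.bc k X K).nilradical).subscheme) (Coh.structureModule (Curv2.normalization ((Curv2.bc k X K).nilradical).subscheme)) 0) = 1 := by
  letI : (Curv2.normalization ((Curv2.bc k X K).nilradical).subscheme).Over (Spec (CommRingCat.of K)) := ⟨(Curv2.normalizationι ((Curv2.bc k X K).nilradical).subscheme ≫ ((Curv2.bc k X K).nilradical).subschemeι ≫ Curv2.bcSnd k X K)⟩
  letI : (((Curv2.bc k X K).nilradical).subscheme).Over (Spec (CommRingCat.of K)) :=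
    ⟨((Curv2.bc k X K).nilradical).subschemeι ≫ Curv2.bcSnd k X K⟩
  haveI hprop : IsProper (Curv2.bcSnd k X K) := by
    unfold Curv2.bcSnd; infer_instance
  haveI : IsProper (((Curv2.bc k X K).nilradical).subschemeι ≫ Curv2.bcSnd k X K) := inferInstance
  haveI : LocallyOfFiniteType ((((Curv2.bc k X K).nilradical).subscheme) ↘ Spec (CommRingCat.of K)) := by
    show LocallyOfFiniteType (((Curv2.bc k X K).nilradical).subschemeι ≫ Curv2.bcSnd k X K)
    infer_instance
  obtain ⟨hfin, -, ⟨V, hVne, hViso⟩, hNint, hNn⟩ :=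
    Groth.Agent.Lib.Helper4.Japanese2.S1585_main K ((Curv2.bc k X K).nilradical).subscheme
  haveI := hfin
  haveI := hNint
  haveI hgi0 : GeometricallyIrreducible (Curv2.bcSnd k X K) := by
    unfold Curv2.bcSnd; infer_instance
  haveI hgi1 : GeometricallyIrreducible
      (((Curv2.bc k X K).nilradical).subschemeι ≫ Curv2.bcSnd k X K) :=
    geometricallyIrreducible_comp_closedImmersion _ _
  haveI hgi2 : GeometricallyIrreducible
      (Curv2.normalizationι ((Curv2.bc k X K).nilradical).subscheme ≫
        ((Curv2.bc k X K).nilradical).subschemeι ≫ Curv2.bcSnd k X K) :=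
    geometricallyIrreducible_comp_birational _ _ V hVne hViso
  haveI : IsProper ((Curv2.normalization ((Curv2.bc k X K).nilradical).subscheme) ↘ Spec (CommRingCat.of K)) := by
    show IsProper (Curv2.normalizationι ((Curv2.bc k X K).nilradical).subscheme ≫
        ((Curv2.bc k X K).nilradical).subschemeι ≫ Curv2.bcSnd k X K)
    infer_instance
  haveI : Smooth ((Curv2.normalization ((Curv2.bc k X K).nilradical).subscheme) ↘ Spec (CommRingCat.of K)) := hsm
  haveI : GeometricallyConnected ((Curv2.normalization ((Curv2.bc k X K).nilradical).subscheme) ↘ Spec (CommRingCat.of K)) := by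
    show GeometricallyConnected (Curv2.normalizationι ((Curv2.bc k X K).nilradical).subscheme ≫
        ((Curv2.bc k X K).nilradical).subschemeι ≫ Curv2.bcSnd k X K)
    exact geometricallyConnected_of_geometricallyIrreducible _
  exact (Groth.Agent.Helper7.GeomConn.smooth_proper_h0_tfae K
    (Curv2.normalization ((Curv2.bc k X K).nilradical).subscheme)).1.mpr inferInstance

end Groth.Agent.Helper2.NormField
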